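import Cfsg.Agent.H963.ReeSepB
import Cfsg.Agent.H125.TwoRee
import Cfsg.Agent.H478.WalterAll
import Cfsg.Agent.SporRec.J1.Words

/-!
# Five pairwise separated subgroups of a small Ree group
-/

set_option autoImplicit false
set_option linter.unusedSectionVars false

namespace Cfsg.Agent.H963.ReeFive

open Subgroup
open Cfsg.Agent.LieRecognition
open Cfsg.Agent.H963.ReeCtx
open Cfsg.Agent.H963.ReeSep
open Cfsg.Agent.H940.MaxCls

section transport

variable {Y Z : Type} [Group Y] [Group Z]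

theorem map_centralizer (e : Y ≃* Z) (x : Y) :
    (centralizer {x} : Subgroup Y).map e.toMonoidHom = centralizer {e x} := by
  ext z
  rw [Subgroup.mem_map, mem_centralizer_singleton_iff]
  constructor
  · rintro ⟨y, hy, rfl⟩
    rw [mem_centralizer_singleton_iff] at hy
    change e y * e x = e x * e y
    rw [← map_mul, hy, map_mul]
  · intro hz
    refine ⟨e.symm z, ?_, e.apply_symm_apply z⟩
    rw [mem_centralizer_singleton_iff]
    apply e.injective
    rw [map_mul, map_mul, e.apply_symm_apply, hz]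

theorem map_normalizer (e : Y ≃* Z) (A : Subgroup Y) :
    (normalizer (A : Set Y)).map e.toMonoidHom = normalizer ((A.map e.toMonoidHom : Subgroup Z) : Set Z) := by
  have hmem : ∀ y : Y, y ∈ A ↔ e y ∈ A.map e.toMonoidHom := by
    intro y
    rw [Subgroup.mem_map]
    constructor
    · intro hy; exact ⟨y, hy, rfl⟩
    · rintro ⟨y', hy', h⟩
      rwa [← e.injective (h : e y' = e y)]
  have key : ∀ y : Y, y ∈ normalizer (A : Set Y) ↔
      e y ∈ normalizer ((A.map e.toMonoidHom : Subgroup Z) : Set Z) := by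
    intro y
    rw [mem_normalizer_iff, mem_normalizer_iff]
    constructor
    · intro h z
      obtain ⟨z, rfl⟩ := e.surjective z
      rw [← hmem, h z, hmem, map_mul, map_mul, map_inv]
    · intro h z
      rw [hmem, h (e z), hmem, map_mul, map_mul, map_inv]
  ext z
  obtain ⟨z, rfl⟩ := e.surjective z
  rw [← key, Subgroup.mem_map]
  constructor
  · rintro ⟨y, hy, h⟩
    rwa [← e.injective (h : e y = e z)]
  · intro h; exact ⟨z, h, rfl⟩

theorem card_map_equiv (e : Y ≃* Z) (A : Subgroup Y) : Nat.card (A.map e.toMonoidHom) = Nat.card A :=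
  (Nat.card_congr (A.equivMapOfInjective _ e.injective).toEquiv).symm

variable {K : Type} [Field K] [Fintype K] {m : ℕ}

/-- transport of the normal form -/
theorem data_map (e : Y ≃* Z) {U : K → K → K → Z} {h : Kˣ → Z} {n : Z} (D : ReeAbs.Data m U h n) :
    ReeAbs.Data m (fun t u v => e.symm (U t u v)) (fun a => e.symm (h a)) (e.symm n) where
  U_mul := by
    intro t u v t' u' v'
    rw [← map_mul, D.U_mul]
  h_mul := by
    intro a b
    rw [← map_mul, D.h_mul]
  h_U := by
    intro a t u v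
    rw [← map_mul, ← map_mul, D.h_U]
  n_h := by
    intro a
    rw [← map_mul, ← map_mul, D.n_h]
  n_n := by
    rw [← map_mul, D.n_n, map_one]
  n_U := by
    rw [← map_mul, ← map_mul, ← map_mul, ← map_mul, D.n_U]
  bruhat := by
    intro g
    rcases D.bruhat (e g) with ⟨t, u, v, a, hg⟩ | ⟨t, u, v, a, t', u', v', hg⟩
    · left
      refine ⟨t, u, v, a, ?_⟩
      rw [← map_mul, ← hg, e.symm_apply_apply]
    · right
      refine ⟨t, u, v, a, t', u', v', ?_⟩
      rw [← map_mul, ← map_mul, ← map_mul, ← hg, e.symm_apply_apply]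
  inj₁ := by
    intro t u v a t' u' v' a' hg
    rw [← map_mul, ← map_mul] at hg
    exact D.inj₁ _ _ _ _ _ _ _ _ (e.symm.injective hg)
  ne := by
    intro t u v a t' u' v' a' t'' u'' v'' hg
    rw [← map_mul, ← map_mul, ← map_mul, ← map_mul] at hg
    exact D.ne _ _ _ _ _ _ _ _ _ _ _ (e.symm.injective hg)
  inj₂ := by
    intro t u v a t' u' v' t₁ u₁ v₁ a₁ t₁' u₁' v₁' hg
    rw [← map_mul, ← map_mul, ← map_mul, ← map_mul, ← map_mul, ← map_mul] at hg
    exact D.inj₂ _ _ _ _ _ _ _ _ _ _ _ _ _ _ (e.symm.injective hg)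

/-- the facts for a group isomorphic to a small Ree group -/
theorem ctx_of_equiv [Finite Y] (hm : 1 ≤ m) (hK : Fintype.card K = 3 ^ (2 * m + 1))
    (e : Y ≃* ↥(Cfsg.Lie.twistedG2 K (3 ^ m))) : Ctx Y m := by
  refine ctx (data_map e (ReeFinal.data hK)) hm hK ?_ ?_
  · have h1 := Cfsg.Agent.S1116.result hK hm
    have h2 := Subgroup.map_commutator (⊤ : Subgroup ↥(Cfsg.Lie.twistedG2 K (3 ^ m))) ⊤ e.symm.toMonoidHom
    rw [Subgroup.map_top_of_surjective _ e.symm.surjective] at h2
    rw [commutator_def, ← h2, ← commutator_def, h1, Subgroup.map_top_of_surjective _ e.symm.surjective]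
  · intro x hx hx1
    have h1 := ReeTorusTw.isCyclic_centralizer hK (x := e x) (by
      intro h
      exact hx (e.injective (by rw [h, map_one]))) (by
      rw [MulEquiv.orderOf_eq]; exact hx1)
    rw [← map_centralizer, ← map_normalizer, card_map_equiv, card_map_equiv] at h1
    refine ⟨?_, h1.2⟩
    have := h1.1
    exact isCyclic_of_surjective _ ((centralizer {x} : Subgroup Y).equivMapOfInjective e.toMonoidHom
      e.injective).symm.surjective

end transport

/-- Walter's theorem in the form needed -/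
theorem kinds : Kinds := by
  intro X _ _ _ hX S hS
  rcases Cfsg.Agent.H478.WalterAll.iso_of_abelian hX S hS with h | h | ⟨K, _, _, m, hm, hK, ⟨e⟩⟩ | ⟨⟨e⟩⟩
  · exact Or.inl h
  · exact Or.inr (Or.inl h)
  · exact Or.inr (Or.inr (Or.inl ⟨m, ctx_of_equiv hm hK e⟩))
  · refine Or.inr (Or.inr (Or.inr ?_))
    rw [Nat.card_congr e.toEquiv, Cfsg.Agent.SporRec.J1.Words.card_J1]
    norm_num

variable {K : Type} [Field K] [Fintype K] {m : ℕ}

/-- the Borel subgroup -/
theorem borel (hm : 1 ≤ m) (hK : Fintype.card K = 3 ^ (2 * m + 1)) :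
    ∃ B : Subgroup ↥(Cfsg.Lie.twistedG2 K (3 ^ m)), IsCoatom B ∧
      Nat.card B = (3 ^ (2 * m + 1)) ^ 3 * (3 ^ (2 * m + 1) - 1) := by
  have hfin := H125.TwoRee.finite_ree hm hK
  have f3 : Fact (Nat.Prime 3) := ⟨Nat.prime_three⟩
  have h2 := H125.TwoRee.two_sylow hK
  have hc := H125.TwoRee.card_sylow hK
  obtain ⟨P⟩ : Nonempty (Sylow 3 ↥(Cfsg.Lie.twistedG2 K (3 ^ m))) := inferInstance
  have hnt : Nontrivial (Sylow 3 ↥(Cfsg.Lie.twistedG2 K (3 ^ m))) := by
    rw [← Finite.one_lt_card_iff_nontrivial, hc]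
    have : 0 < (3 ^ (2 * m + 1)) ^ 3 := by positivity
    omega
  have hprim : MulAction.IsPreprimitive ↥(Cfsg.Lie.twistedG2 K (3 ^ m))
      (Sylow 3 ↥(Cfsg.Lie.twistedG2 K (3 ^ m))) := MulAction.isPreprimitive_of_is_two_pretransitive h2
  refine ⟨MulAction.stabilizer ↥(Cfsg.Lie.twistedG2 K (3 ^ m)) P,
    MulAction.IsPreprimitive.isCoatom_stabilizer_of_isPreprimitive (X := Sylow 3 ↥(Cfsg.Lie.twistedG2 K (3 ^ m)))
      ↥(Cfsg.Lie.twistedG2 K (3 ^ m)) P, ?_⟩
  have h3 := (MulAction.stabilizer ↥(Cfsg.Lie.twistedG2 K (3 ^ m)) P).card_mul_index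
  rw [P.stabilizer_eq_normalizer, ← P.card_eq_index_normalizer, hc, ReeFinal.card hK] at h3
  rw [P.stabilizer_eq_normalizer]
  exact Nat.eq_of_mul_eq_mul_right (by positivity) h3

/-- **Five pairwise separated subgroups of a small Ree group.** -/
theorem five (K : Type) [Field K] [Fintype K] (m : ℕ) (hm : 1 ≤ m) (hK : Fintype.card K = 3 ^ (2 * m + 1)) :
    Sep 5 ↥(Cfsg.Lie.twistedG2 K (3 ^ m)) := by
  have hfin := H125.TwoRee.finite_ree hm hK
  refine ReeSepB.five (ctx_of_equiv hm hK (MulEquiv.refl _)) kinds (borel hm hK) ?_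
  intro X hX hd
  obtain ⟨r, hr⟩ := H125.ReeSub.exists_zs m
  exact H125.TwoRee.card_le_of_dvd hm hK hr X hX (hr.dvd_Q.trans hd)

end Cfsg.Agent.H963.ReeFive
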