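import Mathlib
import Cfsg.Agent.Lib.ElemAbGL

/-!
# Perfect groups acting on small elementary abelian groups and on cyclic normal subgroups
-/

set_option autoImplicit false

namespace Cfsg.Agent.H963.PerfectAct

/-- A perfect group maps trivially to a commutative group. -/
theorem eq_one_of_perfect {G H : Type*} [Group G] [CommGroup H] (hperf : commutator G = ⊤) (f : G →* H)
    (g : G) : f g = 1 := by
  have h1 : commutator G ≤ f.ker := Abelianization.commutator_subset_ker _
  exact MonoidHom.mem_ker.mp (h1 (by rw [hperf]; exact Subgroup.mem_top g))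

/-- A 2 × 2, 1 × 1 or 0 × 0 matrix of square one and determinant one is `±1`. -/
theorem matrix_pm {p : ℕ} [hp : Fact p.Prime] (hp2 : p ≠ 2) {n : ℕ} (hn : n ≤ 2)
    (M : Matrix (Fin n) (Fin n) (ZMod p)) (h2 : M * M = 1) (hdet : M.det = 1) :
    M = 1 ∨ (n = 2 ∧ M = -1) := by
  have hF : (2 : ZMod p) ≠ 0 := by
    intro h
    have h3 : ((2 : ℕ) : ZMod p) = 0 := by exact_mod_cast h
    rw [ZMod.natCast_eq_zero_iff] at h3
    exact hp2 ((Nat.prime_dvd_prime_iff_eq hp.out Nat.prime_two).mp h3)
  interval_cases n
  · left
    ext i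
    exact i.elim0
  · left
    ext i j
    fin_cases i
    fin_cases j
    rw [Matrix.det_fin_one] at hdet
    simpa using hdet
  · rw [Matrix.det_fin_two] at hdet
    have h00 := congrFun (congrFun h2 0) 0
    have h01 := congrFun (congrFun h2 0) 1
    have h10 := congrFun (congrFun h2 1) 0
    have h11 := congrFun (congrFun h2 1) 1
    simp only [Matrix.mul_apply, Fin.sum_univ_two, Matrix.one_apply] at h00 h01 h10 h11
    simp at h00 h01 h10 h11
    set a := M 0 0
    set b := M 0 1
    set c := M 1 0
    set d := M 1 1
    have h3 : a * (a + d) = 2 := by linear_combination h00 + hdet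
    have h4 : a + d ≠ 0 := by
      intro h
      rw [h, mul_zero] at h3
      exact hF h3.symm
    have hb : b = 0 := by
      have : b * (a + d) = 0 := by linear_combination h01
      exact (mul_eq_zero.mp this).resolve_right h4
    have hc : c = 0 := by
      have : c * (a + d) = 0 := by linear_combination h10
      exact (mul_eq_zero.mp this).resolve_right h4
    have h5 : (a - 1) * (a + 1) = 0 := by
      linear_combination h00 - hb * c
    have hM : M = !![a, b; c, d] := by
      ext i j
      fin_cases i <;> fin_cases j <;> rfl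
    rcases mul_eq_zero.mp h5 with h6 | h6
    · left
      have ha : a = 1 := by linear_combination h6
      have hd : d = 1 := by
        rw [ha, hb] at hdet
        linear_combination hdet
      rw [hM, ha, hb, hc, hd]
      ext i j
      fin_cases i <;> fin_cases j <;> simp
    · right
      have ha : a = -1 := by linear_combination h6
      have hd : d = -1 := by
        rw [ha, hb] at hdet
        linear_combination -hdet
      refine ⟨rfl, ?_⟩
      rw [hM, ha, hb, hc, hd]
      ext i j
      fin_cases i <;> fin_cases j <;> simp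

theorem inv_or_one_of_module {W : Type*} [CommGroup W] [Finite W] {p : ℕ} [hp : Fact p.Prime] (hp2 : p ≠ 2)
    [Module (ZMod p) (Additive W)]
    (hexp : ∀ x : W, x ^ p = 1) (hcard : Nat.card W ≤ p ^ 2) {G : Type*} [Group G]
    (hperf : commutator G = ⊤) (ψ : G →* MulAut W) (t : G) (ht : t * t = 1) :
    (∀ w, ψ t w = w) ∨ (Nat.card W = p ^ 2 ∧ ∀ w, ψ t w = w⁻¹) := by
  have hWp : IsPGroup p W := fun x => ⟨1, by rw [pow_one]; exact hexp x⟩
  obtain ⟨n, hn⟩ := IsPGroup.iff_card.mp hWp
  have hn2 : n ≤ 2 := by
    rw [hn] at hcard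
    exact (Nat.pow_le_pow_iff_right hp.out.one_lt).mp hcard
  obtain ⟨b⟩ := Lib.ElemAbGL.exists_basis (W := Additive W) p n hn
  let L := Lib.ElemAbGL.mulAutEquivLinear (V := W) (p := p)
  let D : G →* (ZMod p)ˣ :=
    { toFun := fun g => LinearEquiv.det (L (ψ g))
      map_one' := by rw [map_one, map_one, map_one]
      map_mul' := fun a b => by rw [map_mul, map_mul, map_mul] }
  have hdet : LinearEquiv.det (L (ψ t)) = 1 := eq_one_of_perfect hperf D t
  have hdet' : LinearMap.det (L (ψ t)).toLinearMap = 1 := by
    have := congrArg Units.val hdet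
    rw [LinearEquiv.coe_det] at this
    exact this
  set T := (L (ψ t)).toLinearMap with hT
  have hTw : ∀ w : W, T (Additive.ofMul w) = Additive.ofMul (ψ t w) := fun w => rfl
  have hTT : T * T = 1 := by
    apply LinearMap.ext
    intro x
    change T (T (Additive.ofMul x.toMul)) = x
    rw [hTw, hTw, ← MulAut.mul_apply, ← map_mul, ht, map_one]
    rfl
  have hM2 : LinearMap.toMatrix b b T * LinearMap.toMatrix b b T = 1 := by
    rw [← LinearMap.toMatrix_mul, hTT, LinearMap.toMatrix_one]
  have hMd : (LinearMap.toMatrix b b T).det = 1 := by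
    rw [LinearMap.det_toMatrix]
    exact hdet'
  rcases matrix_pm hp2 hn2 _ hM2 hMd with h | ⟨h, h'⟩
  · left
    have h1 : T = 1 := by
      apply (LinearMap.toMatrix b b).injective
      rw [h, LinearMap.toMatrix_one]
    intro w
    have h2 := hTw w
    rw [h1] at h2
    exact (congrArg Additive.toMul h2).symm
  · right
    refine ⟨by rw [hn, h], ?_⟩
    have h1 : T = -1 := by
      apply (LinearMap.toMatrix b b).injective
      rw [h', map_neg, LinearMap.toMatrix_one]
    intro w
    have h2 := hTw w
    rw [h1] at h2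
    exact (congrArg Additive.toMul h2).symm

/-- **An involution of a perfect group acting on an elementary abelian group of order at most `p²`**
acts trivially, or the order is `p²` and it inverts everything. -/
theorem inv_or_one {W : Type*} [CommGroup W] [Finite W] {p : ℕ} [hp : Fact p.Prime] (hp2 : p ≠ 2)
    (hexp : ∀ x : W, x ^ p = 1) (hcard : Nat.card W ≤ p ^ 2) {G : Type*} [Group G]
    (hperf : commutator G = ⊤) (ψ : G →* MulAut W) (t : G) (ht : t * t = 1) :
    (∀ w, ψ t w = w) ∨ (Nat.card W = p ^ 2 ∧ ∀ w, ψ t w = w⁻¹) := by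
  have h0 : ∀ x : Additive W, p • x = 0 := fun x => congrArg Additive.ofMul (hexp x.toMul)
  exact @inv_or_one_of_module W _ _ p _ hp2 (AddCommGroup.zmodModule h0) hexp hcard G _ hperf ψ t ht

/-- A cyclic normal subgroup of a perfect group is central. -/
theorem le_center_of_cyclic {G : Type*} [Group G] (hperf : commutator G = ⊤) (A : Subgroup G) [A.Normal]
    [IsCyclic A] : A ≤ Subgroup.center G := by
  let _ : CommGroup A := IsCyclic.commGroup
  have hcomm : ∀ f g : MulAut A, f * g = g * f := by
    intro f g
    obtain ⟨a, ha⟩ := IsCyclic.exists_generator (α := A)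
    obtain ⟨i, hi⟩ := Subgroup.mem_zpowers_iff.1 (ha (f a))
    obtain ⟨j, hj⟩ := Subgroup.mem_zpowers_iff.1 (ha (g a))
    have h1 : f (g a) = g (f a) := by
      rw [← hj, ← hi, map_zpow, map_zpow, ← hi, ← hj, ← zpow_mul, ← zpow_mul, mul_comm]
    apply MulEquiv.ext
    intro x
    obtain ⟨k, rfl⟩ := Subgroup.mem_zpowers_iff.1 (ha x)
    rw [MulAut.mul_apply, MulAut.mul_apply, map_zpow g, map_zpow f, map_zpow f, map_zpow g, h1]
  let _ : CommGroup (MulAut A) := { (inferInstance : Group (MulAut A)) with mul_comm := hcomm }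
  intro a ha
  rw [Subgroup.mem_center_iff]
  intro g
  have h1 : (MulAut.conjNormal (H := A) : G →* MulAut A) g = 1 :=
    eq_one_of_perfect hperf _ g
  have h2 := congrArg (fun φ : MulAut A => ((φ ⟨a, ha⟩ : A) : G)) h1
  simp only [MulAut.conjNormal_apply, MulAut.one_apply] at h2
  exact mul_inv_eq_iff_eq_mul.1 h2

/-- A normal subgroup of prime order of a perfect group is central. -/
theorem le_center_of_prime {G : Type*} [Group G] (hperf : commutator G = ⊤) (A : Subgroup G) [A.Normal]
    {p : ℕ} [hp : Fact p.Prime] (hA : Nat.card A = p) : A ≤ Subgroup.center G := by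
  have : IsCyclic A := isCyclic_of_prime_card hA
  exact le_center_of_cyclic hperf A

end Cfsg.Agent.H963.PerfectAct
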