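import Mathlib
import Cfsg.Agent.PLocal.QdSection
import Cfsg.Agent.PLocal.SL2Perfect
import Cfsg.Agent.Lib.ElemAbGL

/-!
# The group `Qd(p)`: the block homomorphism onto `SL(2,p)`, irreducibility of the translations, perfectness
-/

set_option autoImplicit false

namespace Cfsg.Agent.H963.QdMat

open Cfsg.Agent.PLocal.QdSection

/-- every member of `Qd(p)` is a translation times a block matrix -/
theorem row_of_mem {p : ℕ} {M : Matrix.SpecialLinearGroup (Fin 3) (ZMod p)}
    (hM : M ∈ Cfsg.qd p) : ∃ (v : V p) (A : S2 p), M = transl v * diag A := by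
  unfold Cfsg.qd at hM
  induction hM using Subgroup.closure_induction with
  | mem x hx => exact exists_of_row x hx.1 hx.2.1 hx.2.2
  | one => exact ⟨1, 1, by simp⟩
  | mul x y _ _ hx hy =>
    obtain ⟨v, A, rfl⟩ := hx
    obtain ⟨w, B, rfl⟩ := hy
    refine ⟨v * act A w, A * B, ?_⟩
    rw [map_mul, map_mul]
    calc transl v * diag A * (transl w * diag B) = transl v * (diag A * transl w) * diag B := by group
      _ = transl v * (transl (act A w) * diag A) * diag B := by rw [diag_mul_transl]
      _ = _ := by group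
  | inv x _ hx =>
    obtain ⟨v, A, rfl⟩ := hx
    refine ⟨act A⁻¹ v⁻¹, A⁻¹, ?_⟩
    rw [← diag_mul_transl, map_inv, map_inv]
    group

theorem diag_inj {p : ℕ} {A B : S2 p} (h : diag A = diag B) : A = B := by
  have h1 := congrArg Subtype.val h
  rw [diag_apply, diag_apply] at h1
  apply Subtype.ext
  ext i j
  have h2 := congrFun (congrFun h1 (Fin.castSucc i)) (Fin.castSucc j)
  fin_cases i <;> fin_cases j <;> simpa using h2

theorem transl_inj {p : ℕ} {v w : V p} (h : transl v = transl w) : v = w := by
  have h1 := congrArg Subtype.val h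
  rw [transl_apply, transl_apply] at h1
  apply Multiplicative.toAdd.injective
  funext i
  have h2 := congrFun (congrFun h1 (Fin.castSucc i)) 2
  fin_cases i <;> simpa using h2

/-- uniqueness of the factorisation -/
theorem row_unique {p : ℕ} {v w : V p} {A B : S2 p} (h : transl v * diag A = transl w * diag B) :
    v = w ∧ A = B := by
  have h1 := congrArg Subtype.val h
  have hA : A = B := by
    apply Subtype.ext
    ext i j
    have h2 := congrFun (congrFun h1 (Fin.castSucc i)) (Fin.castSucc j)
    have h3 : ∀ (v : V p) (A : S2 p), ((transl v * diag A : Matrix.SpecialLinearGroup (Fin 3) (ZMod p)) :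
        Matrix (Fin 3) (Fin 3) (ZMod p)) (Fin.castSucc i) (Fin.castSucc j) = A i j := by
      intro v A
      rw [Matrix.SpecialLinearGroup.coe_mul, transl_apply, diag_apply]
      fin_cases i <;> fin_cases j <;> simp [Matrix.mul_apply, Fin.sum_univ_three]
    have h4 := h3 v A
    have h5 := h3 w B
    rw [← h4, ← h5]
    exact h2
  subst hA
  exact ⟨transl_inj (mul_right_cancel h), rfl⟩

/-- the block homomorphism from `Qd(p)` onto `SL(2,p)` -/
noncomputable def blk {p : ℕ} : ↥(Cfsg.qd p) →* S2 p where
  toFun M := (row_of_mem M.2).choose_spec.choose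
  map_one' := by
    have h := (row_of_mem (1 : ↥(Cfsg.qd p)).2).choose_spec.choose_spec
    have h1 : transl (1 : V p) * diag (1 : S2 p) = ((1 : ↥(Cfsg.qd p)) : Matrix.SpecialLinearGroup (Fin 3) (ZMod p)) := by
      rw [map_one, map_one, one_mul]; rfl
    rw [h] at h1
    exact (row_unique h1).2.symm
  map_mul' M N := by
    have h := (row_of_mem (M * N).2).choose_spec.choose_spec
    have hM := (row_of_mem M.2).choose_spec.choose_spec
    have hN := (row_of_mem N.2).choose_spec.choose_spec
    set v := (row_of_mem M.2).choose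
    set A := (row_of_mem M.2).choose_spec.choose
    set w := (row_of_mem N.2).choose
    set B := (row_of_mem N.2).choose_spec.choose
    have h1 : transl (v * act A w) * diag (A * B) = ((M * N : ↥(Cfsg.qd p)) : Matrix.SpecialLinearGroup (Fin 3) (ZMod p)) := by
      rw [Subgroup.coe_mul, hM, hN, map_mul, map_mul]
      calc transl v * transl (act A w) * (diag A * diag B)
          = transl v * (transl (act A w) * diag A) * diag B := by group
        _ = transl v * (diag A * transl w) * diag B := by rw [diag_mul_transl]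
        _ = transl v * diag A * (transl w * diag B) := by group
    rw [h] at h1
    exact (row_unique h1).2.symm

theorem blk_of {p : ℕ} (v : V p) (A : S2 p) (h : transl v * diag A ∈ Cfsg.qd p) :
    blk ⟨transl v * diag A, h⟩ = A := by
  have h1 := (row_of_mem h).choose_spec.choose_spec
  exact (row_unique h1).2.symm

theorem blk_surjective {p : ℕ} : Function.Surjective (blk (p := p)) := by
  intro A
  refine ⟨⟨transl 1 * diag A, Subgroup.mul_mem _ (transl_mem_qd _) (diag_mem_qd _)⟩, ?_⟩
  exact blk_of _ _ _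

/-- the translations as a homomorphism into `Qd(p)` -/
def tr {p : ℕ} : V p →* ↥(Cfsg.qd p) := (transl (p := p)).codRestrict _ transl_mem_qd

theorem tr_injective {p : ℕ} : Function.Injective (tr (p := p)) := by
  intro v w h
  exact transl_inj (congrArg Subtype.val h)

theorem blk_ker {p : ℕ} : (blk (p := p)).ker = (tr (p := p)).range := by
  ext M
  constructor
  · intro hM
    obtain ⟨v, A, h⟩ := row_of_mem M.2
    have hM2 : M = ⟨transl v * diag A, h ▸ M.2⟩ := Subtype.ext h
    have h1 : blk M = A := by rw [hM2]; exact blk_of _ _ _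
    rw [MonoidHom.mem_ker] at hM
    have hA : A = 1 := by rw [← h1]; exact hM
    refine ⟨v, ?_⟩
    apply Subtype.ext
    change transl v = M.1
    rw [h, hA, map_one, mul_one]
  · rintro ⟨v, rfl⟩
    rw [MonoidHom.mem_ker]
    have h1 : (tr v : ↥(Cfsg.qd p)) = ⟨transl v * diag 1, by rw [map_one, mul_one]; exact transl_mem_qd v⟩ := by
      apply Subtype.ext
      change transl v = transl v * diag 1
      rw [map_one, mul_one]
    rw [h1]
    exact blk_of _ _ _

/-- conjugation on the translations -/
theorem conj_tr {p : ℕ} (M : ↥(Cfsg.qd p)) (w : V p) : M * tr w * M⁻¹ = tr (act (blk M) w) := by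
  obtain ⟨v, A, h⟩ := row_of_mem M.2
  have hM2 : M = ⟨transl v * diag A, h ▸ M.2⟩ := Subtype.ext h
  have h1 : blk M = A := by rw [hM2]; exact blk_of _ _ _
  rw [h1]
  apply Subtype.ext
  change M.1 * transl w * (M.1)⁻¹ = transl (act A w)
  rw [h]
  have h1 : transl v * transl (act A w) = transl (act A w) * transl v := by
    rw [← map_mul, ← map_mul, mul_comm]
  calc transl v * diag A * transl w * (transl v * diag A)⁻¹
      = transl v * (diag A * transl w) * (transl v * diag A)⁻¹ := by group
    _ = transl v * (transl (act A w) * diag A) * (transl v * diag A)⁻¹ := by rw [diag_mul_transl]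
    _ = (transl v * transl (act A w)) * (transl v)⁻¹ := by group
    _ = _ := by rw [h1]; group

/-! ### transvections -/

/-- an upper unitriangular element -/
def ua (p : ℕ) : S2 p := ⟨!![1, 1; 0, 1], by simp [Matrix.det_fin_two_of]⟩

/-- a lower unitriangular element -/
def ub (p : ℕ) : S2 p := ⟨!![1, 0; 1, 1], by simp [Matrix.det_fin_two_of]⟩

theorem act_ua {p : ℕ} (a b : ZMod p) : act (ua p) (Multiplicative.ofAdd ![a, b]) = Multiplicative.ofAdd ![a + b, b] := by
  apply Multiplicative.toAdd.injective
  funext i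
  fin_cases i <;> simp [act, ua, Matrix.mulVec, dotProduct, Fin.sum_univ_two]

theorem act_ub {p : ℕ} (a b : ZMod p) : act (ub p) (Multiplicative.ofAdd ![a, b]) = Multiplicative.ofAdd ![a, a + b] := by
  apply Multiplicative.toAdd.injective
  funext i
  fin_cases i <;> simp [act, ub, Matrix.mulVec, dotProduct, Fin.sum_univ_two]

theorem ua_pow (p k : ℕ) : (ua p ^ k).1 = !![1, (k : ZMod p); 0, 1] := by
  induction k with
  | zero =>
    rw [pow_zero]
    change (1 : Matrix (Fin 2) (Fin 2) (ZMod p)) = _
    ext i j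
    fin_cases i <;> fin_cases j <;> simp
  | succ k ih =>
    rw [pow_succ, Matrix.SpecialLinearGroup.coe_mul]
    change (ua p ^ k).1 * !![1, 1; 0, 1] = _
    rw [ih]
    ext i j
    fin_cases i <;> fin_cases j <;> simp [Matrix.mul_apply, Fin.sum_univ_two, add_comm]

theorem ua_pow_p (p : ℕ) : ua p ^ p = 1 := by
  apply Subtype.ext
  rw [ua_pow]
  change _ = (1 : Matrix (Fin 2) (Fin 2) (ZMod p))
  ext i j
  fin_cases i <;> fin_cases j <;> simp

theorem ua_ne_one (p : ℕ) [Fact p.Prime] : ua p ≠ 1 := by
  intro h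
  have h1 := congrFun (congrFun (congrArg Subtype.val h) 0) 1
  simp [ua] at h1

theorem exists_coord {p : ℕ} (v : V p) : ∃ a b : ZMod p, v = Multiplicative.ofAdd ![a, b] := by
  refine ⟨Multiplicative.toAdd v 0, Multiplicative.toAdd v 1, ?_⟩
  apply Multiplicative.toAdd.injective
  funext i
  fin_cases i <;> simp

theorem ofAdd_mul {p : ℕ} (a b c d : ZMod p) : (Multiplicative.ofAdd ![a, b] : V p) * Multiplicative.ofAdd ![c, d] =
    Multiplicative.ofAdd ![a + c, b + d] := by
  apply Multiplicative.toAdd.injective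
  funext i
  fin_cases i <;> simp

theorem ofAdd_pow {p : ℕ} (a b : ZMod p) (k : ℕ) : (Multiplicative.ofAdd ![a, b] : V p) ^ k =
    Multiplicative.ofAdd ![k * a, k * b] := by
  apply Multiplicative.toAdd.injective
  funext i
  fin_cases i <;> simp

theorem ofAdd_inv {p : ℕ} (a b : ZMod p) : (Multiplicative.ofAdd ![a, b] : V p)⁻¹ =
    Multiplicative.ofAdd ![-a, -b] := by
  apply Multiplicative.toAdd.injective
  funext i
  fin_cases i <;> simp

theorem V_pow {p : ℕ} (v : V p) : v ^ p = 1 := by
  obtain ⟨a, b, rfl⟩ := exists_coord v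
  rw [ofAdd_pow]
  apply Multiplicative.toAdd.injective
  funext i
  fin_cases i <;> simp

theorem card_V (p : ℕ) [Fact p.Prime] : Nat.card (V p) = p ^ 2 := by
  change Nat.card (Fin 2 → ZMod p) = _
  simp [Nat.card_eq_fintype_card]

theorem mem_of_coord {p : ℕ} [Fact p.Prime] (K : Subgroup (V p)) {a : ZMod p} (ha : a ≠ 0)
    (h : (Multiplicative.ofAdd ![a, 0] : V p) ∈ K) (c : ZMod p) : (Multiplicative.ofAdd ![c, 0] : V p) ∈ K := by
  have h1 := K.pow_mem h (c * a⁻¹).val
  rw [ofAdd_pow, ZMod.natCast_zmod_val, mul_assoc, inv_mul_cancel₀ ha, mul_one, mul_zero] at h1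
  exact h1

theorem mem_of_coord' {p : ℕ} [Fact p.Prime] (K : Subgroup (V p)) {a : ZMod p} (ha : a ≠ 0)
    (h : (Multiplicative.ofAdd ![0, a] : V p) ∈ K) (c : ZMod p) : (Multiplicative.ofAdd ![0, c] : V p) ∈ K := by
  have h1 := K.pow_mem h (c * a⁻¹).val
  rw [ofAdd_pow, ZMod.natCast_zmod_val, mul_zero, mul_assoc, inv_mul_cancel₀ ha, mul_one] at h1
  exact h1

/-- the natural module is irreducible -/
theorem irreducible {p : ℕ} [Fact p.Prime] (K : Subgroup (V p)) (hK : ∀ (A : S2 p), ∀ v ∈ K, act A v ∈ K)
    {v : V p} (hv : v ∈ K) (hv1 : v ≠ 1) : K = ⊤ := by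
  have hdiff : ∀ a b : ZMod p, (Multiplicative.ofAdd ![a, b] : V p) ∈ K →
      (Multiplicative.ofAdd ![b, 0] : V p) ∈ K ∧ (Multiplicative.ofAdd ![0, a] : V p) ∈ K := by
    intro a b hab
    constructor
    · have h1 := K.mul_mem (hK (ua p) _ hab) (K.inv_mem hab)
      rw [act_ua, ofAdd_inv, ofAdd_mul] at h1
      have h2 : a + b + -a = b := by ring
      have h3 : b + -b = 0 := by ring
      rw [h2, h3] at h1
      exact h1
    · have h1 := K.mul_mem (hK (ub p) _ hab) (K.inv_mem hab)
      rw [act_ub, ofAdd_inv, ofAdd_mul] at h1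
      have h2 : a + b + -b = a := by ring
      have h3 : a + -a = 0 := by ring
      rw [h2, h3] at h1
      exact h1
  obtain ⟨a, b, rfl⟩ := exists_coord v
  -- both coordinate axes
  have hx : (∀ c : ZMod p, (Multiplicative.ofAdd ![c, 0] : V p) ∈ K) ∧
      (∀ c : ZMod p, (Multiplicative.ofAdd ![0, c] : V p) ∈ K) := by
    by_cases hb : b = 0
    · have ha : a ≠ 0 := by
        rintro rfl
        apply hv1
        rw [hb]
        apply Multiplicative.toAdd.injective
        funext i
        fin_cases i <;> simp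
      have h1 := mem_of_coord' K ha (hdiff a b hv).2
      refine ⟨fun c => ?_, h1⟩
      exact (hdiff _ _ (h1 c)).1
    · have h1 := mem_of_coord K hb (hdiff a b hv).1
      refine ⟨h1, fun c => ?_⟩
      exact (hdiff _ _ (h1 c)).2
  rw [eq_top_iff]
  rintro w -
  obtain ⟨c, d, rfl⟩ := exists_coord w
  have h1 := K.mul_mem (hx.1 c) (hx.2 d)
  rw [ofAdd_mul, add_zero, zero_add] at h1
  exact h1

/-- `Qd(p)` is perfect for `p > 3` -/
theorem qd_perfect {p : ℕ} [Fact p.Prime] (hp : 3 < p) : commutator ↥(Cfsg.qd p) = ⊤ := by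
  have hS : commutator (S2 p) = ⊤ := PLocal.SL2Perfect.commutator_eq_top (by omega) (by omega)
  -- translations
  have htr : ∀ v : V p, tr v ∈ commutator ↥(Cfsg.qd p) := by
    intro v
    set K : Subgroup (V p) := (commutator ↥(Cfsg.qd p)).comap tr with hK
    have h1 : ∀ (A : S2 p), ∀ w ∈ K, act A w ∈ K := by
      intro A w hw
      obtain ⟨M, rfl⟩ := blk_surjective A
      rw [hK, Subgroup.mem_comap, ← conj_tr]
      exact (inferInstance : (commutator ↥(Cfsg.qd p)).Normal).conj_mem _ hw _
    have h2 : (Multiplicative.ofAdd ![1, 0] : V p) ∈ K := by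
      rw [hK, Subgroup.mem_comap]
      obtain ⟨M, hM⟩ := blk_surjective (ua p)
      have h3 := conj_tr M (Multiplicative.ofAdd ![0, 1])
      rw [hM, act_ua] at h3
      have h4 : (Multiplicative.ofAdd ![1, 0] : V p) = Multiplicative.ofAdd ![0 + 1, 1] * (Multiplicative.ofAdd ![0, 1])⁻¹ := by
        rw [ofAdd_inv, ofAdd_mul]
        congr 2
        · ring
        · ring_nf
      rw [h4, map_mul, map_inv, ← h3]
      exact Subgroup.commutator_mem_commutator (Subgroup.mem_top _) (Subgroup.mem_top _)
    have h3 : (Multiplicative.ofAdd ![1, 0] : V p) ≠ 1 := by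
      intro h
      have := congrFun (congrArg Multiplicative.toAdd h) 0
      simp at this
    have h4 := irreducible K h1 h2 h3
    have : v ∈ K := by rw [h4]; trivial
    exact this
  rw [eq_top_iff]
  rintro M -
  have h1 : blk M ∈ (commutator ↥(Cfsg.qd p)).map blk := by
    have h2 : (commutator ↥(Cfsg.qd p)).map blk = ⊤ := by
      rw [commutator_def, Subgroup.map_commutator, Subgroup.map_top_of_surjective _ blk_surjective, ← commutator_def]
      exact hS
    rw [h2]; trivial
  obtain ⟨N, hN, hNM⟩ := h1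
  have h2 : M * N⁻¹ ∈ (blk (p := p)).ker := by
    rw [MonoidHom.mem_ker, map_mul, map_inv, hNM, mul_inv_cancel]
  rw [blk_ker] at h2
  obtain ⟨v, hv⟩ := h2
  have h3 : M = tr v * N := by rw [hv]; group
  rw [h3]
  exact Subgroup.mul_mem _ (htr v) hN

end Cfsg.Agent.H963.QdMat
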