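import Mathlib
import Cfsg.Prelude.Def_CaseTheorems
import Cfsg.Agent.H963.QdMat

/-!
# `G / U ≅ Qd(p)`, `p > 3`, with abelian `O_p(G)` of rank two forces `U = 1`
-/

set_option autoImplicit false

namespace Cfsg.Agent.H963.QdAbelian

open Subgroup Cfsg.Agent.PLocal.QdSection Cfsg.Agent.H963.QdMat

/-- If `φ = 1 + N` has order dividing `p ≥ 4` on an abelian group `A` and `N² A ≤ pA` then `pN A ≤ p² A`. -/
theorem key {A : Type*} [AddCommGroup A] {p : ℕ} (hp5 : 4 ≤ p) (hprime : p.Prime)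
    (φ : AddMonoid.End A) (hφ : φ ^ p = 1)
    (hN : ∀ x : A, ∃ w : A, (φ - 1) ((φ - 1) x) = p • w) (x : A) :
    ∃ w : A, p • ((φ - 1) x) = (p * p) • w := by
  set N : AddMonoid.End A := φ - 1 with hNdef
  have hφN : φ = N + 1 := by rw [hNdef]; abel
  let B : AddSubgroup A :=
    { carrier := {z | ∃ w : A, z = (p * p) • w}
      add_mem' := by
        rintro _ _ ⟨w, rfl⟩ ⟨w', rfl⟩
        exact ⟨w + w', (smul_add _ _ _).symm⟩
      zero_mem' := ⟨0, (smul_zero _).symm⟩
      neg_mem' := by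
        rintro _ ⟨w, rfl⟩
        exact ⟨-w, (smul_neg _ _).symm⟩ }
  have hB : ∀ z, z ∈ B ↔ ∃ w : A, z = (p * p) • w := fun z => Iff.rfl
  have hmul : ∀ (f g : AddMonoid.End A) (x : A), (f * g) x = f (g x) := fun _ _ _ => rfl
  let ev : AddMonoid.End A →+ A :=
    { toFun := fun f => f x
      map_zero' := rfl
      map_add' := fun _ _ => rfl }
  let f : ℕ → A := fun k => (p.choose k) • (N ^ k) x
  have hsum : ∑ k ∈ Finset.range (p + 1), f k = x := by
    have h1 : (N + 1) ^ p = ∑ m ∈ Finset.range (p + 1), N ^ m * 1 ^ (p - m) * (p.choose m : AddMonoid.End A) :=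
      (Commute.one_right N).add_pow p
    rw [← hφN, hφ] at h1
    have h2 := congrArg ev h1
    rw [map_sum] at h2
    have h3 : ∀ m, ev (N ^ m * 1 ^ (p - m) * (p.choose m : AddMonoid.End A)) = f m := by
      intro m
      change (N ^ m * 1 ^ (p - m) * (p.choose m : AddMonoid.End A)) x = _
      rw [one_pow, mul_one, hmul, AddMonoid.End.natCast_apply, map_nsmul]
    rw [Finset.sum_congr rfl (fun m _ => h3 m)] at h2
    exact h2.symm
  obtain ⟨q, rfl⟩ : ∃ q, p = q + 1 := ⟨p - 1, by omega⟩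
  rw [Finset.sum_range_succ', Finset.sum_range_succ'] at hsum
  have hf0 : f 0 = x := by
    change ((q + 1).choose 0) • (N ^ 0) x = x
    rw [Nat.choose_zero_right, one_smul, pow_zero]
    rfl
  have hf1 : f (0 + 1) = (q + 1) • N x := by
    change ((q + 1).choose 1) • (N ^ 1) x = _
    rw [Nat.choose_one_right, pow_one]
  rw [hf0, hf1] at hsum
  have hmem : ∑ k ∈ Finset.range q, f (k + 1 + 1) ∈ B := by
    refine B.sum_mem ?_
    intro k hk
    rw [Finset.mem_range] at hk
    obtain ⟨w, hw⟩ := hN x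
    have hN2 : (N ^ (k + 1 + 1)) x = (q + 1) • (N ^ k) w := by
      have h1 : N ^ (k + 1 + 1) = N ^ k * (N * N) := by rw [← pow_two, ← pow_add]
      rw [h1, hmul, hmul, hw, map_nsmul]
    by_cases hkq : k + 1 + 1 = q + 1
    · obtain ⟨j, rfl⟩ : ∃ j, k = j + 2 := ⟨k - 2, by omega⟩
      obtain ⟨w', hw'⟩ := hN w
      have h2 : (N ^ (j + 2)) w = (q + 1) • (N ^ j) w' := by
        have h1 : N ^ (j + 2) = N ^ j * (N * N) := by rw [← pow_two, ← pow_add]
        rw [h1, hmul, hmul, hw', map_nsmul]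
      refine ⟨(N ^ j) w', ?_⟩
      change ((q + 1).choose (j + 2 + 1 + 1)) • (N ^ (j + 2 + 1 + 1)) x = _
      rw [hN2, h2, hkq, Nat.choose_self, one_smul, smul_smul]
    · obtain ⟨c, hc⟩ : q + 1 ∣ (q + 1).choose (k + 1 + 1) :=
        hprime.dvd_choose_self (by omega) (by omega)
      refine ⟨c • (N ^ k) w, ?_⟩
      change ((q + 1).choose (k + 1 + 1)) • (N ^ (k + 1 + 1)) x = _
      rw [hN2, hc, smul_smul, smul_smul]
      congr 1
      ring
  have h5 : (q + 1) • N x = -(∑ k ∈ Finset.range q, f (k + 1 + 1)) := by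
    have h6 : (∑ k ∈ Finset.range q, f (k + 1 + 1)) + (q + 1) • N x + x - x = x - x := by rw [hsum]
    rw [add_sub_cancel_right, sub_self] at h6
    exact (neg_eq_of_add_eq_zero_right h6).symm
  have h6 : (q + 1) • N x ∈ B := by
    rw [h5]
    exact B.neg_mem hmem
  exact (hB _).1 h6

/-- **The abelian case.** -/
theorem abelian_case {G : Type*} [Group G] [Finite G] {p : ℕ} [hpf : Fact p.Prime] (hp : 3 < p)
    (M U : Subgroup G) [hMn : M.Normal] (hM : IsPGroup p M) (hUM : U ≤ M)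
    (ρ : G →* S2 p) (hρ : Function.Surjective ρ)
    (e : M →* V p) (he : Function.Surjective e) (hek : ∀ m : M, e m = 1 ↔ (m : G) ∈ U)
    (hc : ∀ (g : G) (m : M), e (MulAut.conjNormal g m) = act (ρ g) (e m))
    (hab : ∀ x ∈ M, ∀ y ∈ M, x * y = y * x)
    (hr : Cfsg.PRankLE p 2 G)
    (y : G) (hy : ρ y = ua p) (hyp : y ^ p = 1) : U = ⊥ := by
  let _ : CommGroup M := { (inferInstance : Group M) with
    mul_comm := fun a b => Subtype.ext (hab a a.2 b b.2) }
  let P : M →* M := powMonoidHom p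
  let Q : M →* M := powMonoidHom (p * p)
  -- `U = M^p`
  have hPle : P.range ≤ e.ker := by
    rintro _ ⟨x, rfl⟩
    rw [MonoidHom.mem_ker]
    change e (x ^ p) = 1
    rw [map_pow, V_pow]
  have hker : Nat.card P.ker ≤ p ^ 2 := by
    have h1 := hr (P.ker.map M.subtype) ⟨⟨by
      rintro ⟨_, x, hx, rfl⟩ ⟨_, z, hz, rfl⟩
      apply Subtype.ext
      exact hab _ x.2 _ z.2⟩⟩ (by
      rintro _ ⟨x, hx, rfl⟩
      rw [← map_pow]
      exact (congrArg M.subtype (MonoidHom.mem_ker.1 hx)).trans (map_one _))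
    rwa [Subgroup.card_map_of_injective M.subtype_injective] at h1
  have hUp : e.ker = P.range := by
    symm
    apply Subgroup.eq_of_le_of_card_ge hPle
    have h1 : Nat.card P.ker * Nat.card P.range = Nat.card M := by
      rw [← Subgroup.index_ker]
      exact P.ker.card_mul_index
    have h2 : Nat.card e.ker * p ^ 2 = Nat.card M := by
      have h3 := e.ker.card_mul_index
      rw [Subgroup.index_ker, MonoidHom.range_eq_top.2 he, Subgroup.card_top, card_V] at h3
      exact h3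
    have h3 : Nat.card e.ker * p ^ 2 ≤ p ^ 2 * Nat.card P.range := by
      rw [h2, ← h1]
      exact Nat.mul_le_mul_right _ hker
    rw [mul_comm] at h3
    exact Nat.le_of_mul_le_mul_left h3 (pow_pos hpf.out.pos _)
  have hroot : ∀ m : M, e m = 1 → ∃ a : M, a ^ p = m := by
    intro m hm
    have h1 : m ∈ P.range := by rw [← hUp]; exact hm
    exact h1
  -- the action of `y`
  let φ : AddMonoid.End (Additive M) := MonoidHom.toAdditive (MulAut.conjNormal (H := M) y).toMonoidHom
  have hmul : ∀ (f g : AddMonoid.End (Additive M)) (x : Additive M), (f * g) x = f (g x) := fun _ _ _ => rfl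
  have hφ : ∀ (k : ℕ) (x : M), (φ ^ k) (Additive.ofMul x) = Additive.ofMul (MulAut.conjNormal (y ^ k) x) := by
    intro k
    induction k with
    | zero =>
      intro x
      rw [pow_zero, pow_zero, map_one]
      rfl
    | succ k ih =>
      intro x
      rw [pow_succ', hmul, ih, pow_succ' y, map_mul, MulAut.mul_apply]
      rfl
  have hφp : φ ^ p = 1 := by
    apply AddMonoidHom.ext
    intro x
    have h1 := hφ p x.toMul
    rw [hyp, map_one] at h1
    exact h1
  have hNx : ∀ x : M, (φ - 1) (Additive.ofMul x) = Additive.ofMul (MulAut.conjNormal y x * x⁻¹) := by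
    intro x
    have h1 : (φ - 1) (Additive.ofMul x) = φ (Additive.ofMul x) - Additive.ofMul x := rfl
    rw [h1, sub_eq_add_neg]
    rfl
  have heN : ∀ x : M, e (MulAut.conjNormal y x * x⁻¹) = act (ua p) (e x) * (e x)⁻¹ := by
    intro x
    rw [map_mul, map_inv, hc, hy]
  have hNN : ∀ x : Additive M, ∃ w : Additive M, (φ - 1) ((φ - 1) x) = p • w := by
    intro x
    have h1 : (φ - 1) ((φ - 1) x) = Additive.ofMul (MulAut.conjNormal y
        (MulAut.conjNormal y x.toMul * (x.toMul)⁻¹) * (MulAut.conjNormal y x.toMul * (x.toMul)⁻¹)⁻¹) := by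
      rw [← hNx, ← hNx]
      rfl
    obtain ⟨w, hw⟩ := hroot (MulAut.conjNormal y
        (MulAut.conjNormal y x.toMul * (x.toMul)⁻¹) * (MulAut.conjNormal y x.toMul * (x.toMul)⁻¹)⁻¹) (by
      rw [heN, heN]
      obtain ⟨a, b, hab'⟩ := exists_coord (e x.toMul)
      rw [hab', act_ua, ofAdd_inv, ofAdd_mul, act_ua, ofAdd_inv, ofAdd_mul]
      apply Multiplicative.toAdd.injective
      funext i
      fin_cases i <;> simp)
    refine ⟨Additive.ofMul w, ?_⟩
    rw [h1, ← hw]
    rfl
  have hkey : ∀ x : M, ∃ w : M, (MulAut.conjNormal y x * x⁻¹) ^ p = w ^ (p * p) := by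
    intro x
    obtain ⟨w, hw⟩ := key (by omega) hpf.out φ hφp hNN (Additive.ofMul x)
    rw [hNx] at hw
    exact ⟨w.toMul, hw⟩
  -- the subgroup of `x` with `x^p` in `M^(p^2)`
  let L : Subgroup M := Q.range.comap P
  have hL : ∀ x : M, x ∈ L ↔ ∃ w : M, w ^ (p * p) = x ^ p := fun x => Iff.rfl
  have hkL : e.ker ≤ L := by
    intro x hx
    obtain ⟨a, rfl⟩ := hroot x hx
    rw [hL]
    exact ⟨a, by rw [pow_mul]⟩
  have hLtop : L.map e = ⊤ := by
    apply irreducible (L.map e) (v := Multiplicative.ofAdd ![1, 0])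
    · rintro A _ ⟨x, hx, rfl⟩
      obtain ⟨g, rfl⟩ := hρ A
      refine ⟨MulAut.conjNormal g x, ?_, hc g x⟩
      obtain ⟨w, hw⟩ := (hL x).1 hx
      refine (hL _).2 ⟨MulAut.conjNormal g w, ?_⟩
      rw [← map_pow, ← map_pow, hw]
    · obtain ⟨x, hx⟩ := he (Multiplicative.ofAdd ![0, 1])
      refine ⟨MulAut.conjNormal y x * x⁻¹, ?_, ?_⟩
      · obtain ⟨w, hw⟩ := hkey x
        exact (hL _).2 ⟨w, hw.symm⟩
      · rw [heN, hx, act_ua, ofAdd_inv, ofAdd_mul]
        apply Multiplicative.toAdd.injective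
        funext i
        fin_cases i <;> simp
    · intro h
      have := congrFun (congrArg Multiplicative.toAdd h) 0
      simp at this
  have hall : ∀ x : M, x ∈ L := by
    intro x
    have h1 : e x ∈ L.map e := by rw [hLtop]; trivial
    obtain ⟨l, hl, hlx⟩ := h1
    have h2 : x * l⁻¹ ∈ e.ker := by rw [MonoidHom.mem_ker, map_mul, map_inv, hlx, mul_inv_cancel]
    have h3 := L.mul_mem (hkL h2) hl
    rwa [inv_mul_cancel_right] at h3
  have hiter : ∀ (j : ℕ) (x : M), ∃ a : M, a ^ (p ^ (j + 1)) = x ^ p := by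
    intro j
    induction j with
    | zero =>
      intro x
      exact ⟨x, by rw [zero_add, pow_one]⟩
    | succ j ih =>
      intro x
      obtain ⟨a, ha⟩ := ih x
      obtain ⟨b, hb⟩ := (hL a).1 (hall a)
      refine ⟨b, ?_⟩
      have h1 : p ^ (j + 1 + 1) = (p * p) * p ^ j := by ring
      rw [h1, pow_mul, hb, ← pow_mul, ← ha, ← pow_succ']
  obtain ⟨k, hk⟩ := IsPGroup.iff_card.1 hM
  have hpow : ∀ x : M, x ^ p = 1 := by
    intro x
    obtain ⟨a, ha⟩ := hiter k x
    rw [← ha, pow_succ, pow_mul, ← hk, pow_card_eq_one', one_pow]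
  rw [eq_bot_iff]
  intro u hu
  rw [mem_bot]
  obtain ⟨a, ha⟩ := hroot ⟨u, hUM hu⟩ ((hek _).2 hu)
  rw [hpow a] at ha
  exact (congrArg Subtype.val ha).symm

end Cfsg.Agent.H963.QdAbelian
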