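import Mathlib
import Cfsg.Agent.H125.ReeSub

/-!
# Small Ree groups: the facts used for the separation of maximal subgroups
-/

set_option autoImplicit false
set_option linter.unusedSectionVars false

namespace Cfsg.Agent.H963.ReeCtx

open Subgroup
open Cfsg.Agent.LieRecognition
open Cfsg.Agent.LieRecognition.ReeInv
open Cfsg.Agent.LieRecognition.ReeTorusB
open Cfsg.Agent.LieRecognition.ReeClass
open Cfsg.Agent.H125.ReeFull
open Cfsg.Agent.H125.ReeSolv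
open Cfsg.Agent.H125.ReeSub

universe w

/-- local facts of a small Ree group -/
structure Ctx (G : Type w) [Group G] [Finite G] (m : ℕ) : Prop where
  hm : 1 ≤ m
  card_G : Nat.card G = (3 ^ (2 * m + 1)) ^ 3 * (3 ^ (2 * m + 1) - 1) * ((3 ^ (2 * m + 1)) ^ 3 + 1)
  sq : ∀ P : Sylow 2 G, ∀ x ∈ P, x * x = 1
  card2 : ∀ P : Sylow 2 G, Nat.card P = 8
  norm2 : ∀ P : Sylow 2 G, Nat.card (normalizer ((P : Subgroup G) : Set G)) = 168
  cent2 : ∀ P : Sylow 2 G, centralizer ((P : Subgroup G) : Set G) = P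
  trans2 : ∀ P : Sylow 2 G, ∀ x ∈ P, x ≠ 1 → ∀ y ∈ P, y ≠ 1 →
    ∃ n ∈ normalizer ((P : Subgroup G) : Set G), n * x * n⁻¹ = y
  conj : ∀ t t' : G, t ≠ 1 → t * t = 1 → t' ≠ 1 → t' * t' = 1 → ∃ g, g * t * g⁻¹ = t'
  cardC : ∀ t : G, t ≠ 1 → t * t = 1 →
    Nat.card (centralizer {t} : Subgroup G) = 3 ^ (2 * m + 1) * ((3 ^ (2 * m + 1)) ^ 2 - 1)
  four : ∀ E : Subgroup G, Nat.card E = 4 → (∀ x ∈ E, x * x = 1) →
    Nat.card (normalizer (E : Set G)) = 6 * (3 ^ (2 * m + 1) + 1)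
  comp : ∀ t : G, t ≠ 1 → t * t = 1 → ∃ L : Subgroup G, IsSimpleGroup L ∧ L ≤ centralizer {t} ∧ t ∉ L ∧
    2 * Nat.card L = 3 ^ (2 * m + 1) * ((3 ^ (2 * m + 1)) ^ 2 - 1)
  odd : ∀ (X M : Subgroup G) (s : ℕ), s.Prime → s ≠ 2 → IsPGroup s M → M ≠ ⊥ →
    (∀ g ∈ X, ∀ x ∈ M, g⁻¹ * x * g ∈ M) →
    Nat.card X ∣ (3 ^ (2 * m + 1)) ^ 3 * (3 ^ (2 * m + 1) - 1) ∨ Nat.card X ∣ 2 * (3 ^ (2 * m + 1) - 1) ∨
      Nat.card X ∣ 6 * (3 ^ (2 * m + 1) + 1) ∨ Nat.card X ∣ 6 * (3 ^ (2 * m + 1) - 3 ^ (m + 1) + 1) ∨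
      Nat.card X ∣ 6 * (3 ^ (2 * m + 1) + 3 ^ (m + 1) + 1)
  orders : ∀ x : G, orderOf x ∣ 6 ∨ orderOf x ∣ 9 ∨ orderOf x ∣ 3 ^ (2 * m + 1) - 1 ∨
    orderOf x ∣ (3 ^ (2 * m + 1) + 1) / 2 ∨ orderOf x ∣ 3 ^ (2 * m + 1) - 3 ^ (m + 1) + 1 ∨
      orderOf x ∣ 3 ^ (2 * m + 1) + 3 ^ (m + 1) + 1
  ordq : ∃ x : G, orderOf x = 3 ^ (2 * m + 1) - 1
  psl : ∀ (F : Type) [Field F] [Fintype F] (s : ℕ) [CharP F s], s.Prime → 5 ≤ s →
    ∀ φ : Matrix.ProjectiveSpecialLinearGroup (Fin 2) F →* G, Function.Injective φ → Fintype.card F ≤ 13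
  torA : ∃ A : Subgroup G, IsCyclic A ∧ Nat.card A = 3 ^ (2 * m + 1) - 3 ^ (m + 1) + 1 ∧
    Nat.card (normalizer (A : Set G)) = 6 * (3 ^ (2 * m + 1) - 3 ^ (m + 1) + 1)
  torB : ∃ A : Subgroup G, IsCyclic A ∧ Nat.card A = 3 ^ (2 * m + 1) + 3 ^ (m + 1) + 1 ∧
    Nat.card (normalizer (A : Set G)) = 6 * (3 ^ (2 * m + 1) + 3 ^ (m + 1) + 1)

section

variable {K : Type*} [Field K] [Fintype K] {G : Type w} [Group G] [Finite G] {m : ℕ}
  {U : K → K → K → G} {h : Kˣ → G} {n : G}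

/-- local subgroups at an odd prime -/
theorem local_odd (D : ReeAbs.Data m U h n) (hm : 1 ≤ m) (hK : Fintype.card K = 3 ^ (2 * m + 1))
    (hG : commutator G = ⊤)
    (hcyc : ∀ x : G, x ≠ 1 → orderOf x ∣ (3 ^ (2 * m + 1)) ^ 2 - 3 ^ (2 * m + 1) + 1 →
      IsCyclic (centralizer {x}) ∧
        Nat.card (normalizer (centralizer {x} : Set G)) ∣ 6 * Nat.card (centralizer {x}))
    (X : Subgroup G) {s : ℕ} (hs : s.Prime) (hs2 : s ≠ 2) {M : Subgroup G}
    (hM : IsPGroup s M) (hM1 : M ≠ ⊥) (hnorm : ∀ g ∈ X, ∀ x ∈ M, g⁻¹ * x * g ∈ M) :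
    Nat.card X ∣ (3 ^ (2 * m + 1)) ^ 3 * (3 ^ (2 * m + 1) - 1) ∨ Nat.card X ∣ 2 * (3 ^ (2 * m + 1) - 1) ∨
      Nat.card X ∣ 6 * (3 ^ (2 * m + 1) + 1) ∨ Nat.card X ∣ 6 * (3 ^ (2 * m + 1) - 3 ^ (m + 1) + 1) ∨
      Nat.card X ∣ 6 * (3 ^ (2 * m + 1) + 3 ^ (m + 1) + 1) := by
  classical
  have : CharP K 3 := ReeAbs.charP_three hK
  have Dl := ReeSetup.local_of_data D hK
  have ar := ReeClass.arith m
  obtain ⟨f, t₀, S⟩ := ReeSetup.exists_setup D hK hG Dl
  obtain ⟨A1, A2, z1, z2, k1, k2, n1, n2, x1, x2, hcov⟩ := ReeSetup.exists_tori D hm hK hG hcyc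
  have facts : Fact s.Prime := ⟨hs⟩
  have hRodd : ∀ y ∈ M, Odd (orderOf y) := by
    intro y hy
    obtain ⟨k, hk⟩ := IsPGroup.iff_orderOf.1 hM ⟨y, hy⟩
    rw [Subgroup.orderOf_mk] at hk
    rw [hk]
    exact (hs.odd_of_ne_two hs2).pow
  have hbot : ∀ C : Subgroup G, 1 < Nat.card C → C ≠ ⊥ := by
    rintro C h1 rfl
    rw [Subgroup.card_bot] at h1
    omega
  have hq27 : 27 ≤ 3 ^ (2 * m + 1) := by
    calc 27 = 3 ^ 3 := by norm_num
      _ ≤ 3 ^ (2 * m + 1) := Nat.pow_le_pow_right (by norm_num) (by omega)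
  obtain ⟨z, hz, hz1, hzc⟩ := exists_central hM hM1
  rcases classify Dl ar S hz1 (hRodd z hz) with ⟨g, hg⟩ | ⟨g, hg⟩ | ⟨g, hg⟩ | hg
  · left
    have h1 := le_normalizer_of_TI (fun x hx hx1 y hy ho => (Dl.cent_U x hx hx1 y hy).2 ho)
      (fun x hx hx1 g hg y hy => Dl.B_U g (Dl.TI_U x hx hx1 g hg) y hy) hRodd hnorm hz hz1 hzc hg
    have h2 := Subgroup.card_dvd_of_le h1
    rw [card_normalizer_map_conj] at h2
    have h3 : normalizer (ReeSylowThree.uSub D : Set G) ≤ ReeSplit.bSub D := by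
      intro g hg
      obtain ⟨⟨x, hx⟩, hx1'⟩ := Subgroup.ne_bot_iff_exists_ne_one.1 (hbot (ReeSylowThree.uSub D)
        (by rw [Dl.card_U]; exact Nat.one_lt_pow (by norm_num) (by omega)))
      have hx1 : x ≠ 1 := fun h => hx1' (Subtype.ext h)
      have h4 := (mem_normalizer_iff.1 ((normalizer (ReeSylowThree.uSub D : Set G)).inv_mem hg) x).1 hx
      rw [inv_inv] at h4
      exact Dl.TI_U x hx hx1 g h4
    have h4 := h2.trans (Subgroup.card_dvd_of_le h3)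
    rwa [Dl.card_B] at h4
  · right; left
    have h1 := le_normalizer_of_TI (fun x hx hx1 y hy ho => Dl.odd_H y (Dl.cent_A x hx hx1 y hy) ho)
      (fun x hx hx1 g hg y hy => Dl.N_A g (Dl.TI_A x hx hx1 g hg) y hy) hRodd hnorm hz hz1 hzc hg
    have h2 := Subgroup.card_dvd_of_le h1
    rwa [card_normalizer_map_conj, ReeSplit.normalizer_eq D hK le_rfl (hbot _ (by rw [Dl.card_A]; omega)),
      Dl.card_N] at h2
  · right; right; left
    have h1 := le_normalizer_of_TI (fun x hx hx1 y hy ho => S.odd_EA (S.cent_x hx hx1 hy) ho)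
      (fun x hx hx1 g hg y hy => S.N_norm_A (S.TI hx hx1 hg) hy) hRodd hnorm hz hz1 hzc hg
    have h2 := Subgroup.card_dvd_of_le h1
    rwa [card_normalizer_map_conj, S.normalizer_eq le_rfl (hbot _ (by rw [S.card_A]; omega)),
      S.card_N] at h2
  · right; right; right
    have key : ∀ C : Subgroup G, (∀ x ∈ C, x ≠ 1 → centralizer {x} = C) → ∀ g, g * z * g⁻¹ ∈ C →
        Nat.card X ∣ Nat.card (normalizer (C : Set G)) := by
      intro C hC g hg
      rw [← card_normalizer_map_conj C g⁻¹]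
      apply Subgroup.card_dvd_of_le
      refine le_normalizer_of_TI ?_ ?_ hRodd hnorm hz hz1 hzc (by rwa [inv_inv])
      · intro x hx hx1 y hy _
        rw [← hC x hx hx1, mem_centralizer_singleton_iff]
        exact hy
      · intro x hx hx1 g hg y hy
        have h1 := (normalizer (C : Set G)).inv_mem (mem_normalizer_of_conj hC hx hx1 hg)
        have h2 := (mem_normalizer_iff.1 h1 y).1 hy
        rwa [inv_inv] at h2
    obtain ⟨g, hg | hg⟩ := hcov z hz1 hg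
    · left
      have := key A1 x1 g hg
      rwa [n1] at this
    · right
      have := key A2 x2 g hg
      rwa [n2] at this

/-- the facts hold for every group with the normal form of a small Ree group -/
theorem ctx (D : ReeAbs.Data m U h n) (hm : 1 ≤ m) (hK : Fintype.card K = 3 ^ (2 * m + 1))
    (hG : commutator G = ⊤)
    (hcyc : ∀ x : G, x ≠ 1 → orderOf x ∣ (3 ^ (2 * m + 1)) ^ 2 - 3 ^ (2 * m + 1) + 1 →
      IsCyclic (centralizer {x}) ∧
        Nat.card (normalizer (centralizer {x} : Set G)) ∣ 6 * Nat.card (centralizer {x})) : Ctx G m := by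
  classical
  have : CharP K 3 := ReeAbs.charP_three hK
  have Dl := ReeSetup.local_of_data D hK
  have ar := ReeClass.arith m
  obtain ⟨f, t₀, S⟩ := ReeSetup.exists_setup D hK hG Dl
  have hS8 : ∀ S : Sylow 2 G, Nat.card S = 8 ∧ ∀ x ∈ S, x * x = 1 :=
    fun S => D.sylow_two hK Dl.card_G S
  have hconj := S.conjG
  have hsyl := fun P : Sylow 2 G => ReeInv.sylow_two S.hc S.hk hG hS8 P
  have htr : ∀ P : Sylow 2 G, ∃ c ∈ (P : Subgroup G), ∀ y ∈ P, y ≠ 1 →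
      ∃ n ∈ normalizer ((P : Subgroup G) : Set G), n * c * n⁻¹ = y := by
    intro P
    obtain ⟨g, hg⟩ := exists_conj_sylow S.hc S.hk (fun S => (hS8 S).2) P
    have hc' := S.hc.conj g
    have h8 : Nat.card (S8 (g * h (-1) * g⁻¹) ((MulAut.conj g).toMonoidHom.comp f) (ReePSL.pr K ClassicalGeometry.SLTwoFour.w)
        (ReePSL.pr K (ReePSL.J K))) = 8 := by
      rw [← hg]; exact (hS8 P).1
    have hm := main_S8 hc' S.hk hG h8 (not_sixteen_dvd fun S => (hS8 S).1) P hg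
    refine ⟨g * h (-1) * g⁻¹, ?_, ?_⟩
    · rw [hg]; exact a_mem_S8 hc'
    · intro y hy hy1
      obtain ⟨n, hn, hny⟩ := hm.2 y (by rw [← hg]; exact hy) hy1
      exact ⟨n, by rw [hg]; exact hn, hny⟩
  have hcc : ∀ (g x : G), Nat.card (centralizer {g * x * g⁻¹} : Subgroup G) =
      Nat.card (centralizer {x} : Subgroup G) := by
    intro g x
    have h1 : (centralizer {g * x * g⁻¹} : Subgroup G) =
        (centralizer {x} : Subgroup G).map (MulAut.conj g).toMonoidHom := by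
      ext y
      rw [mem_map_conj, mem_centralizer_singleton_iff, mem_centralizer_singleton_iff]
      constructor
      · intro hy
        calc g⁻¹ * y * g * x = g⁻¹ * (y * (g * x * g⁻¹)) * g := by group
          _ = g⁻¹ * (g * x * g⁻¹ * y) * g := by rw [hy]
          _ = x * (g⁻¹ * y * g) := by group
      · intro hy
        calc y * (g * x * g⁻¹) = g * (g⁻¹ * y * g * x) * g⁻¹ := by group
          _ = g * (x * (g⁻¹ * y * g)) * g⁻¹ := by rw [hy]
          _ = g * x * g⁻¹ * y := by group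
    rw [h1, card_map_conj]
  refine
    { hm := hm
      card_G := Dl.card_G
      sq := fun P => (hS8 P).2
      card2 := fun P => (hS8 P).1
      norm2 := fun P => (hsyl P).2
      cent2 := fun P => (hsyl P).1
      trans2 := ?_
      conj := ?_
      cardC := ?_
      four := ?_
      comp := ?_
      odd := fun X M s hs hs2 hM hM1 hn => local_odd D hm hK hG hcyc X hs hs2 hM hM1 hn
      orders := fun x => (ReeSetup.orders D hm hK hG hcyc (orderOf x)).1 ⟨x, rfl⟩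
      ordq := (ReeSetup.orders D hm hK hG hcyc _).2 (Or.inr (Or.inr (Or.inl dvd_rfl)))
      psl := fun F _ _ s _ hs hs5 φ hφ => psl_card_le D hm hK hG hcyc hs hs5 φ hφ
      torA := ?_
      torB := ?_ }
  · intro P x hx hx1 y hy hy1
    obtain ⟨c, hc, hcP⟩ := htr P
    obtain ⟨n1, hn1, h1⟩ := hcP x hx hx1
    obtain ⟨n2, hn2, h2⟩ := hcP y hy hy1
    refine ⟨n2 * n1⁻¹, mul_mem hn2 (inv_mem hn1), ?_⟩
    rw [← h1, ← h2]; group
  · intro t t' h1 h2 h3 h4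
    obtain ⟨g1, hg1⟩ := hconj t h1 h2
    obtain ⟨g2, hg2⟩ := hconj t' h3 h4
    exact ⟨g2 * g1⁻¹, by rw [← hg1, ← hg2]; group⟩
  · intro t h1 h2
    obtain ⟨g, rfl⟩ := hconj t h1 h2
    rw [hcc, ReeClass.card_centralizer S]
  · intro E hE hE2
    obtain ⟨g, rfl⟩ := four_conj S hE hE2
    rw [card_normalizer_map_conj]
    exact S.card_N
  · intro t h1 h2
    obtain ⟨g, rfl⟩ := hconj t h1 h2
    have hc' := S.hc.conj g
    have hsimp : IsSimpleGroup (ReePSL.L K) := by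
      apply Matrix.ProjectiveSpecialLinearGroup.rank_two_simple
      rw [Nat.card_eq_fintype_card, hK]
      calc 4 ≤ 3 ^ 3 := by norm_num
        _ ≤ 3 ^ (2 * m + 1) := Nat.pow_le_pow_right (by norm_num) (by omega)
    set φ := (MulAut.conj g).toMonoidHom.comp f with hφ
    let e : ReePSL.L K ≃* φ.range := MonoidHom.ofInjective hc'.inj
    refine ⟨φ.range, ?_, ?_, ?_, ?_⟩
    · exact e.symm.isSimpleGroup
    · rintro _ ⟨l, rfl⟩
      rw [mem_centralizer_singleton_iff]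
      exact (hc'.comm l).symm
    · rintro ⟨l, hl⟩
      exact hc'.not_mem l hl
    · rw [← Nat.card_congr e.toEquiv, mul_comm]
      exact S.ht.cardL
  · obtain ⟨A1, A2, z1, z2, k1, k2, n1, n2, x1, x2, hcov⟩ := ReeSetup.exists_tori D hm hK hG hcyc
    exact ⟨A1, z1, k1, n1⟩
  · obtain ⟨A1, A2, z1, z2, k1, k2, n1, n2, x1, x2, hcov⟩ := ReeSetup.exists_tori D hm hK hG hcyc
    exact ⟨A2, z2, k2, n2⟩

end

end Cfsg.Agent.H963.ReeCtx
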