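import Mathlib
import Cfsg.Agent.Lib.MinNormal
import Cfsg.Agent.SmallSimple.PSLTwoPart
import Cfsg.Agent.H940.MaxCls
import Cfsg.Agent.H963.ReeCtx

/-!
# Five pairwise separated subgroups of a small Ree group: the group theory
-/

set_option autoImplicit false
set_option linter.unusedSectionVars false

namespace Cfsg.Agent.H963.ReeSep

open Subgroup
open Cfsg.Agent.LieRecognition
open Cfsg.Agent.H963.ReeCtx

/-- nonabelian simple groups with abelian Sylow 2-subgroups -/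
def Kinds : Prop := ∀ (X : Type) [Group X] [Finite X] [IsSimpleGroup X], ¬ IsMulCommutative X →
  ∀ S : Sylow 2 X, (∀ a ∈ (S : Subgroup X), ∀ b ∈ (S : Subgroup X), a * b = b * a) →
    (∃ (F : Type) (_ : Field F) (_ : Fintype F) (n : ℕ), 2 ≤ n ∧ Fintype.card F = 2 ^ n ∧
        Nonempty (X ≃* Matrix.ProjectiveSpecialLinearGroup (Fin 2) F)) ∨
      (∃ (F : Type) (_ : Field F) (_ : Fintype F),
        (Fintype.card F % 8 = 3 ∨ Fintype.card F % 8 = 5) ∧ 5 ≤ Fintype.card F ∧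
          Nonempty (X ≃* Matrix.ProjectiveSpecialLinearGroup (Fin 2) F)) ∨
      (∃ l, Ctx X l) ∨ 5 ∣ Nat.card X

section arith

/-- sizes and congruences -/
structure Ar (q s : ℕ) : Prop where
  q27 : 27 ≤ q
  q8 : q % 8 = 3
  q9 : q % 9 = 0
  s9 : s % 9 = 0
  s9' : 9 ≤ s
  sle : 3 * s ≤ q

theorem ar {m : ℕ} (hm : 1 ≤ m) : Ar (3 ^ (2 * m + 1)) (3 ^ (m + 1)) where
  q27 := by
    calc 27 = 3 ^ 3 := by norm_num
      _ ≤ 3 ^ (2 * m + 1) := Nat.pow_le_pow_right (by norm_num) (by omega)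
  q8 := (ReeClass.arith m).q8
  q9 := by
    apply Nat.mod_eq_zero_of_dvd
    rw [show 9 = 3 ^ 2 by norm_num]
    exact pow_dvd_pow 3 (by omega)
  s9 := by
    apply Nat.mod_eq_zero_of_dvd
    rw [show 9 = 3 ^ 2 by norm_num]
    exact pow_dvd_pow 3 (by omega)
  s9' := by
    calc 9 = 3 ^ 2 := by norm_num
      _ ≤ 3 ^ (m + 1) := Nat.pow_le_pow_right (by norm_num) (by omega)
  sle := by
    rw [← pow_succ']
    exact Nat.pow_le_pow_right (by norm_num) (by omega)

/-- the numbers `q ∓ s + 1` -/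
def IsA (m a : ℕ) : Prop := a = 3 ^ (2 * m + 1) - 3 ^ (m + 1) + 1 ∨ a = 3 ^ (2 * m + 1) + 3 ^ (m + 1) + 1

theorem IsA.dvd {m a : ℕ} (h : IsA m a) : a ∣ (3 ^ (2 * m + 1)) ^ 2 - 3 ^ (2 * m + 1) + 1 := by
  rcases h with rfl | rfl
  · exact (H125.ReeFull.dvd_Q m).1
  · exact (H125.ReeFull.dvd_Q m).2

theorem IsA.facts {m a : ℕ} (h : IsA m a) (hm : 1 ≤ m) : 19 ≤ a ∧ a % 9 = 1 ∧ a % 2 = 1 ∧
    3 * a ≥ 2 * 3 ^ (2 * m + 1) := by
  have A := ar hm
  have h1 := A.q27
  have h2 := A.q8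
  have h3 := A.q9
  have h4 := A.s9
  have h5 := A.s9'
  have h6 := A.sle
  have h7 : 3 ^ (m + 1) % 2 = 1 := by
    rw [Nat.pow_mod]
    norm_num
  rcases h with rfl | rfl
  · refine ⟨by omega, by omega, by omega, by omega⟩
  · refine ⟨by omega, by omega, by omega, by omega⟩

/-- `q ∓ s + 1` is prime to the other factors -/
theorem IsA.cop {m a n : ℕ} (h : IsA m a) (i j k l : ℕ)
    (hn : n ∣ 2 ^ i * 3 ^ j * (3 ^ (2 * m + 1) - 1) ^ k * (3 ^ (2 * m + 1) + 1) ^ l) : Nat.Coprime a n := by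
  apply Nat.coprime_of_dvd
  intro p hp h1 h2
  obtain ⟨p2, p3, -, p4, p5⟩ := (ReeClass.arith m).prime_Q hp (h1.trans h.dvd)
  have h3 := h2.trans hn
  rw [hp.dvd_mul, hp.dvd_mul, hp.dvd_mul] at h3
  rcases h3 with ((h3 | h3) | h3) | h3
  · exact p2 ((Nat.prime_dvd_prime_iff_eq hp Nat.prime_two).1 (hp.dvd_of_dvd_pow h3))
  · exact p3 ((Nat.prime_dvd_prime_iff_eq hp Nat.prime_three).1 (hp.dvd_of_dvd_pow h3))
  · exact p4 (hp.dvd_of_dvd_pow h3)
  · exact p5 (hp.dvd_of_dvd_pow h3)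

/-- `a ∣ n` is impossible -/
theorem IsA.not_dvd {m a n : ℕ} (h : IsA m a) (hm : 1 ≤ m) (i j k l : ℕ)
    (hn : n ∣ 2 ^ i * 3 ^ j * (3 ^ (2 * m + 1) - 1) ^ k * (3 ^ (2 * m + 1) + 1) ^ l) : ¬ a ∣ n := by
  intro h1
  have h2 := h.cop i j k l hn
  have h3 := Nat.Coprime.eq_one_of_dvd h2 h1
  have := (h.facts hm).1
  omega

/-- the `2`-part of `PSL₂(q)`, `q ≡ 3, 5 mod 8` -/
theorem psl_four {Q N : ℕ} (hQ : Q % 8 = 3 ∨ Q % 8 = 5) (h : 2 * N = Q * (Q ^ 2 - 1)) : 4 ∣ N ∧ ¬ 8 ∣ N := by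
  rcases hQ with hQ | hQ
  · obtain ⟨k, rfl⟩ : ∃ k, Q = 8 * k + 3 := ⟨Q / 8, by omega⟩
    have h1 : (8 * k + 3) ^ 2 - 1 = 8 * (8 * k ^ 2 + 6 * k + 1) := by
      have : (8 * k + 3) ^ 2 = 8 * (8 * k ^ 2 + 6 * k + 1) + 1 := by ring
      omega
    rw [h1] at h
    have h2 : N = 4 * (2 * (32 * k ^ 3 + 36 * k ^ 2 + 13 * k + 1) + 1) := by
      have : (8 * k + 3) * (8 * (8 * k ^ 2 + 6 * k + 1)) =
          2 * (4 * (2 * (32 * k ^ 3 + 36 * k ^ 2 + 13 * k + 1) + 1)) := by ring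
      omega
    omega
  · obtain ⟨k, rfl⟩ : ∃ k, Q = 8 * k + 5 := ⟨Q / 8, by omega⟩
    have h1 : (8 * k + 5) ^ 2 - 1 = 8 * (8 * k ^ 2 + 10 * k + 3) := by
      have : (8 * k + 5) ^ 2 = 8 * (8 * k ^ 2 + 10 * k + 3) + 1 := by ring
      omega
    rw [h1] at h
    have h2 : N = 4 * (2 * (32 * k ^ 3 + 60 * k ^ 2 + 37 * k + 7) + 1) := by
      have : (8 * k + 5) * (8 * (8 * k ^ 2 + 10 * k + 3)) =
          2 * (4 * (2 * (32 * k ^ 3 + 60 * k ^ 2 + 37 * k + 7) + 1)) := by ring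
      omega
    omega

theorem pow_three_mod (k : ℕ) : 3 ^ k % 8 = 1 ∨ 3 ^ k % 8 = 3 := by
  induction k with
  | zero => left; norm_num
  | succ k ih => rw [pow_succ]; omega

theorem not_five (m : ℕ) : ¬ 5 ∣ (3 ^ (2 * m + 1)) ^ 3 * (3 ^ (2 * m + 1) - 1) * ((3 ^ (2 * m + 1)) ^ 3 + 1) := by
  intro h5
  have h6 : 3 ^ (2 * m + 1) % 5 = 3 ∨ 3 ^ (2 * m + 1) % 5 = 2 := by
    rw [pow_succ, pow_mul]
    have : ∀ k : ℕ, (3 ^ 2) ^ k % 5 = 1 ∨ (3 ^ 2) ^ k % 5 = 4 := by
      intro k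
      induction k with
      | zero => left; norm_num
      | succ k ih => rw [pow_succ]; omega
    have := this m
    omega
  generalize 3 ^ (2 * m + 1) = q at h5 h6
  have h7 : q % 5 ≠ 0 ∧ (q - 1) % 5 ≠ 0 := by omega
  have h8 : (q ^ 3 + 1) % 5 ≠ 0 := by
    rcases h6 with h6 | h6
    · rw [Nat.add_mod, Nat.pow_mod, h6]; norm_num
    · rw [Nat.add_mod, Nat.pow_mod, h6]; norm_num
  have hp5 : Nat.Prime 5 := by norm_num
  rw [hp5.dvd_mul, hp5.dvd_mul] at h5
  rcases h5 with (h5 | h5) | h5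
  · exact h7.1 (Nat.mod_eq_zero_of_dvd (hp5.dvd_of_dvd_pow h5))
  · exact h7.2 (Nat.mod_eq_zero_of_dvd h5)
  · exact h8 (Nat.mod_eq_zero_of_dvd h5)

end arith

section general

variable {X : Type*} [Group X] [Finite X]

/-- the product of two subgroups with trivial intersection, one of them normal -/
theorem card_mul_dvd (A B : Subgroup X) (hB : B.Normal) (h : ∀ x ∈ A, x ∈ B → x = 1) :
    Nat.card A * Nat.card B ∣ Nat.card X := by
  have h1 : Function.Injective ((QuotientGroup.mk' B).comp A.subtype) := by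
    rw [← MonoidHom.ker_eq_bot_iff, eq_bot_iff]
    rintro ⟨x, hx⟩ hx'
    rw [MonoidHom.mem_ker] at hx'
    rw [Subgroup.mem_bot]
    exact Subtype.ext (h x hx ((QuotientGroup.eq_one_iff x).1 hx'))
  have h2 := Subgroup.card_dvd_of_injective _ h1
  rw [Subgroup.card_eq_card_quotient_mul_card_subgroup B]
  exact Nat.mul_dvd_mul_right h2 _

/-- the Frattini argument, counting -/
theorem frattini_card (Y : Subgroup X) (hY : Y.Normal) (P : Sylow 2 Y) :
    Nat.card X * Nat.card (normalizer ((P.map Y.subtype : Subgroup X) : Set X) ⊓ Y : Subgroup X) =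
      Nat.card (normalizer ((P.map Y.subtype : Subgroup X) : Set X)) * Nat.card Y := by
  have : Fact (Nat.Prime 2) := ⟨Nat.prime_two⟩
  set N := normalizer ((P.map Y.subtype : Subgroup X) : Set X) with hN
  have h1 : N ⊔ Y = ⊤ := Sylow.normalizer_sup_eq_top P
  have h2 : Y.relIndex (N ⊔ Y) = Y.relIndex N := Subgroup.relIndex_sup_right N Y
  rw [h1, Subgroup.relIndex_top_right] at h2
  have h3 : (N ⊓ Y).relIndex N = Y.relIndex N := Subgroup.inf_relIndex_left N Y
  have h4 : Nat.card (N ⊓ Y : Subgroup X) * (N ⊓ Y).relIndex N = Nat.card N := by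
    rw [← Subgroup.relIndex_bot_left, ← Subgroup.relIndex_bot_left]
    exact Subgroup.relIndex_mul_relIndex _ _ _ bot_le inf_le_left
  have h5 := Y.card_mul_index
  rw [← h4, ← h5, h2, h3]
  ring

end general

section main

variable {G : Type} [Group G] [Finite G] {m : ℕ}

theorem not16 (C : Ctx G m) : ¬ 16 ∣ Nat.card G := ReeInv.not_sixteen_dvd C.card2

theorem not5 (C : Ctx G m) : ¬ 5 ∣ Nat.card G := by rw [C.card_G]; exact not_five m

theorem two_sq (C : Ctx G m) {M : Subgroup G} (hM : IsPGroup 2 M) : ∀ x ∈ M, x * x = 1 := by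
  obtain ⟨P, hP⟩ := hM.exists_le_sylow
  exact fun x hx => C.sq P x (hP hx)

/-- candidates for a minimal normal subgroup -/
def Cand (Y : Type) [Group Y] [Finite Y] : Prop :=
  (∃ (F : Type) (_ : Field F) (_ : Fintype F), Fintype.card F = 8 ∧
      Nonempty (Y ≃* Matrix.ProjectiveSpecialLinearGroup (Fin 2) F)) ∨
    (∃ (F : Type) (_ : Field F) (_ : Fintype F),
      (Fintype.card F % 8 = 3 ∨ Fintype.card F % 8 = 5) ∧ 5 ≤ Fintype.card F ∧
        Nonempty (Y ≃* Matrix.ProjectiveSpecialLinearGroup (Fin 2) F)) ∨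
    (∃ l, Ctx Y l)

theorem card_sylow_dvd {Y : Type*} [Group Y] [Finite Y] (h : ∀ P : Sylow 2 Y, Nat.card P = 8) :
    8 ∣ Nat.card Y := by
  obtain ⟨P⟩ : Nonempty (Sylow 2 Y) := inferInstance
  rw [← h P]
  exact Subgroup.card_subgroup_dvd_card _

/-- simple subgroups -/
theorem cand_of_simple (C : Ctx G m) (W : Kinds) {Y : Type} [Group Y] [Finite Y] [IsSimpleGroup Y]
    (hna : ¬ IsMulCommutative Y) (ψ : Y →* G) (hψ : Function.Injective ψ) : Cand Y ∧ 4 ∣ Nat.card Y := by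
  have hYdvd : Nat.card Y ∣ Nat.card G := Subgroup.card_dvd_of_injective ψ hψ
  have hsq : ∀ P : Subgroup Y, IsPGroup 2 P → ∀ x ∈ P, x * x = 1 := by
    intro P hP x hx
    apply hψ
    rw [map_mul, map_one]
    exact two_sq C (hP.map ψ) (ψ x) ⟨x, hx, rfl⟩
  have hcomm : ∀ Q : Sylow 2 Y, ∀ a ∈ (Q : Subgroup Y), ∀ b ∈ (Q : Subgroup Y), a * b = b * a := by
    intro Q x hx y hy
    have h1 : ∀ z ∈ (Q : Subgroup Y), z⁻¹ = z := fun z hz =>
      inv_eq_of_mul_eq_one_left (hsq _ Q.isPGroup' z hz)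
    have h2 := h1 _ (Q.mul_mem hx hy)
    rw [mul_inv_rev, h1 _ hx, h1 _ hy] at h2
    exact h2.symm
  have fact2 : Fact (Nat.Prime 2) := ⟨Nat.prime_two⟩
  rcases W Y hna default (hcomm _) with ⟨F, hF1, hF2, b, hb, hFc, ⟨g⟩⟩ | ⟨F, hF1, hF2, hFc, hF5, ⟨g⟩⟩ | ⟨l, hl⟩ | hJ
  · have h1 := Cfsg.Agent.SmallSimple.PSLTwoPart.card_psl_two_even (F := F)
      (by rw [hFc]; exact (Nat.even_pow.2 ⟨even_two, by omega⟩))
    rw [← Nat.card_congr g.toEquiv] at h1
    have h2 : 2 ^ b ∣ Nat.card G := by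
      refine Dvd.dvd.trans ?_ hYdvd
      rw [h1, hFc]; exact Nat.dvd_mul_right _ _
    have hb3 : b ≤ 3 := by
      by_contra hb3
      exact not16 C ((pow_dvd_pow 2 (by omega : 4 ≤ b)).trans h2)
    have hb23 : b = 2 ∨ b = 3 := by omega
    rcases hb23 with rfl | rfl
    · exfalso
      apply not5 C
      refine Dvd.dvd.trans ?_ hYdvd
      rw [h1, hFc]
      norm_num
    · refine ⟨Or.inl ⟨F, hF1, hF2, by rw [hFc]; norm_num, ⟨g⟩⟩, ?_⟩
      rw [h1, hFc]; norm_num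
  · have h1 := Cfsg.Agent.SmallSimple.PSLTwoPart.card_psl_two_odd (F := F) (by rw [Nat.odd_iff]; omega)
    rw [← Nat.card_congr g.toEquiv] at h1
    exact ⟨Or.inr (Or.inl ⟨F, hF1, hF2, hFc, hF5, ⟨g⟩⟩), (psl_four hFc h1).1⟩
  · refine ⟨Or.inr (Or.inr ⟨l, hl⟩), Dvd.dvd.trans (by norm_num) (card_sylow_dvd hl.card2)⟩
  · exact absurd (hJ.trans hYdvd) (not5 C)

/-- a subgroup without non-trivial normal `p`-subgroups -/
def Fit (X : Subgroup G) : Prop := ∀ s : ℕ, s.Prime → ∀ M : Subgroup X, M.Normal → IsPGroup s M → M = ⊥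

theorem exists_simple (C : Ctx G m) (W : Kinds) (X : Subgroup G) (hno : Fit X)
    (N : Subgroup X) (hN : N.Normal) (hN1 : N ≠ ⊥) :
    ∃ Y : Subgroup X, Y.Normal ∧ Y ≤ N ∧ IsSimpleGroup Y ∧ ¬ IsMulCommutative Y ∧ Cand Y ∧ 4 ∣ Nat.card Y := by
  obtain ⟨M, hM, hMmin⟩ := (Set.toFinite {M : Subgroup X | M.Normal ∧ M ≠ ⊥ ∧ M ≤ N}).exists_minimal
    ⟨N, hN, hN1, le_rfl⟩
  obtain ⟨hMn, hM1, hMN⟩ := hM
  have hmin : ∀ M' : Subgroup X, M'.Normal → M' ≤ M → M' = ⊥ ∨ M' = M := by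
    intro M' h1 h2
    by_cases hb : M' = ⊥
    · exact Or.inl hb
    · exact Or.inr (le_antisymm h2 (hMmin ⟨h1, hb, h2.trans hMN⟩ h2))
  obtain ⟨Y, k, hYM, hY, hk, ⟨e⟩⟩ := Cfsg.Agent.Lib.MinNormal.exists_mulEquiv_pi M hM1 hmin
  have hcardM : Nat.card M = Nat.card Y ^ k := by
    rw [Nat.card_congr e.toEquiv, Nat.card_pi, Finset.prod_const, Finset.card_univ, Fintype.card_fin]
  have hYna : ¬ IsMulCommutative Y := by
    intro hYc
    have hpr : (Nat.card Y).Prime := by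
      let _ : CommGroup Y := { (inferInstance : Group Y) with mul_comm := hYc.is_comm.comm }
      exact IsSimpleGroup.prime_card
    apply hM1
    exact hno _ hpr M hMn (IsPGroup.of_card hcardM)
  have hψi : Function.Injective (X.subtype.comp Y.subtype) := X.subtype_injective.comp Y.subtype_injective
  obtain ⟨hc, h4⟩ := cand_of_simple C W hYna (X.subtype.comp Y.subtype) hψi
  have hk1 : k = 1 := by
    by_contra hk1
    apply not16 C
    calc 16 = 4 ^ 2 := by norm_num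
      _ ∣ Nat.card Y ^ 2 := pow_dvd_pow_of_dvd h4 2
      _ ∣ Nat.card Y ^ k := pow_dvd_pow _ (by omega)
      _ ∣ Nat.card X := by rw [← hcardM]; exact Subgroup.card_subgroup_dvd_card M
      _ ∣ Nat.card G := Subgroup.card_subgroup_dvd_card X
  rw [hk1, pow_one] at hcardM
  have hYM' : Y = M := Subgroup.eq_of_le_of_card_ge hYM hcardM.le
  refine ⟨Y, by rw [hYM']; exact hMn, hYM.trans hMN, hY, hYna, hc, h4⟩

theorem center_bot {X : Type*} [Group X] [Finite X] (Y : Subgroup X) [IsSimpleGroup Y]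
    (hna : ¬ IsMulCommutative Y) : ∀ x ∈ Y, (∀ y ∈ Y, x * y = y * x) → x = 1 := by
  intro x hx hxy
  rcases (inferInstance : (Subgroup.center Y).Normal).eq_bot_or_eq_top with h | h
  · have h1 : (⟨x, hx⟩ : Y) ∈ Subgroup.center Y := by
      rw [Subgroup.mem_center_iff]
      rintro ⟨y, hy⟩
      exact Subtype.ext (hxy y hy).symm
    rw [h, Subgroup.mem_bot] at h1
    exact congrArg Subtype.val h1
  · exfalso
    apply hna
    refine ⟨⟨fun a b => ?_⟩⟩
    have h1 : b ∈ Subgroup.center Y := by rw [h]; exact Subgroup.mem_top _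
    exact Subgroup.mem_center_iff.1 h1 a

theorem cent_bot (C : Ctx G m) (W : Kinds) (X : Subgroup G) (hno : Fit X) (Y : Subgroup X)
    (hYn : Y.Normal) [IsSimpleGroup Y] (hna : ¬ IsMulCommutative Y) (h4 : 4 ∣ Nat.card Y) (x : X)
    (hx : ∀ y ∈ Y, x * y = y * x) : x = 1 := by
  by_contra hx1
  have hZ : (Subgroup.centralizer (Y : Set X)).Normal := inferInstance
  have hZ1 : Subgroup.centralizer (Y : Set X) ≠ ⊥ := by
    intro h
    apply hx1
    rw [← Subgroup.mem_bot, ← h, Subgroup.mem_centralizer_iff]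
    exact fun y hy => (hx y hy).symm
  obtain ⟨Z, hZn, hZle, -, -, -, hZ4⟩ := exists_simple C W X hno _ hZ hZ1
  have h1 := card_mul_dvd Z Y hYn (fun z hz hzY => center_bot Y hna z hzY fun y hy =>
    (Subgroup.mem_centralizer_iff.1 (hZle hz) y hy).symm)
  apply not16 C
  calc 16 = 4 * 4 := by norm_num
    _ ∣ Nat.card Z * Nat.card Y := Nat.mul_dvd_mul hZ4 h4
    _ ∣ Nat.card X := h1
    _ ∣ Nat.card G := Subgroup.card_subgroup_dvd_card X

/-- a normal subgroup of order divisible by `8` -/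
theorem big_two (C : Ctx G m) (X : Subgroup G) (Y : Subgroup X) (hYn : Y.Normal) (h8 : 8 ∣ Nat.card Y) :
    Nat.card X ∣ 21 * Nat.card Y ∧
      ((∀ P : Sylow 2 Y, Nat.card (normalizer ((P : Subgroup Y) : Set Y)) = 168) → Y = ⊤) := by
  have fact2 : Fact (Nat.Prime 2) := ⟨Nat.prime_two⟩
  obtain ⟨P⟩ : Nonempty (Sylow 2 Y) := inferInstance
  set P' : Subgroup X := P.map Y.subtype with hP'
  have hP8 : Nat.card P = 8 := by
    have h1 : 2 ^ 3 ∣ Nat.card P := P.pow_dvd_card_of_pow_dvd_card (by norm_num; exact h8)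
    have h2 : Nat.card ((P : Subgroup Y).map (X.subtype.comp Y.subtype)) = Nat.card P :=
      (Nat.card_congr ((P : Subgroup Y).equivMapOfInjective _
        (X.subtype_injective.comp Y.subtype_injective)).toEquiv).symm
    obtain ⟨Q, hQ⟩ := (P.isPGroup'.map (X.subtype.comp Y.subtype)).exists_le_sylow
    have h3 := Subgroup.card_le_of_le hQ
    have h4 : Nat.card (Q : Subgroup G) = 8 := C.card2 Q
    rw [h2, h4] at h3
    exact le_antisymm h3 (Nat.le_of_dvd Nat.card_pos (by norm_num at h1; exact h1))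
  have hP'8 : Nat.card P' = 8 := by
    rw [← hP8]
    exact (Nat.card_congr ((P : Subgroup Y).equivMapOfInjective _ Y.subtype_injective).toEquiv).symm
  have hP''8 : Nat.card (P'.map X.subtype) = 8 := by
    rw [← hP'8]
    exact (Nat.card_congr (P'.equivMapOfInjective _ X.subtype_injective).toEquiv).symm
  obtain ⟨Q, hQ⟩ := ((P.isPGroup'.map Y.subtype).map X.subtype).exists_le_sylow
  have hQ' : P'.map X.subtype = Q :=
    Subgroup.eq_of_le_of_card_ge hQ (by rw [hP''8]; exact (C.card2 Q).le)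
  set N := normalizer (P' : Set X) with hN
  have hNd : Nat.card N ∣ 168 := by
    rw [← C.norm2 Q, ← hQ']
    have h1 : N.map X.subtype ≤ normalizer ((P'.map X.subtype : Subgroup G) : Set G) := by
      rintro _ ⟨x, hx, rfl⟩
      rw [mem_normalizer_iff]
      intro y
      constructor
      · rintro ⟨z, hz, rfl⟩
        exact ⟨x * z * x⁻¹, (mem_normalizer_iff.1 hx z).1 hz, rfl⟩
      · rintro ⟨z, hz, hzy⟩
        refine ⟨x⁻¹ * z * x, ?_, ?_⟩
        · have := (mem_normalizer_iff.1 (N.inv_mem hx) z).1 hz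
          rwa [inv_inv] at this
        · have h2 : (z : G) = x * y * (x : G)⁻¹ := hzy
          change (x : G)⁻¹ * z * x = y
          rw [h2]; group
    have h2 := Subgroup.card_dvd_of_le h1
    rwa [← Nat.card_congr (N.equivMapOfInjective _ X.subtype_injective).toEquiv] at h2
  have hfr := frattini_card Y hYn P
  rw [← hP', ← hN] at hfr
  have h8' : 8 ∣ Nat.card (N ⊓ Y : Subgroup X) := by
    rw [← hP'8]
    apply Subgroup.card_dvd_of_le
    refine le_inf Subgroup.le_normalizer ?_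
    rintro _ ⟨y, -, rfl⟩
    exact y.2
  constructor
  · obtain ⟨c, hc⟩ := h8'
    obtain ⟨d, hd⟩ := hNd
    refine ⟨c * d, ?_⟩
    rw [hc] at hfr
    have h1 : 8 * (21 * Nat.card Y) = 8 * (Nat.card X * (c * d)) := by
      calc 8 * (21 * Nat.card Y) = 168 * Nat.card Y := by ring
        _ = (Nat.card N * Nat.card Y) * d := by rw [hd]; ring
        _ = Nat.card X * (8 * c) * d := by rw [hfr]
        _ = _ := by ring
    exact Nat.eq_of_mul_eq_mul_left (by norm_num) h1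
  · intro h168
    have h1 : Nat.card (N ⊓ Y : Subgroup X) = 168 := by
      rw [← h168 P]
      have h2 : (N ⊓ Y : Subgroup X) = (normalizer ((P : Subgroup Y) : Set Y)).map Y.subtype := by
        ext x
        rw [Subgroup.mem_inf, Subgroup.mem_map]
        constructor
        · rintro ⟨hx, hxY⟩
          refine ⟨⟨x, hxY⟩, ?_, rfl⟩
          rw [mem_normalizer_iff]
          intro y
          have h3 := mem_normalizer_iff.1 hx (y : X)
          rw [hP'] at h3
          constructor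
          · intro hy
            obtain ⟨z, hz, hz'⟩ := h3.1 ⟨y, hy, rfl⟩
            have : z = ⟨x, hxY⟩ * y * ⟨x, hxY⟩⁻¹ := Subtype.ext hz'
            rwa [← this]
          · intro hy
            obtain ⟨z, hz, hz'⟩ := h3.2 ⟨_, hy, rfl⟩
            have : z = y := Subtype.ext hz'
            rwa [← this]
        · rintro ⟨y, hy, rfl⟩
          refine ⟨?_, y.2⟩
          rw [hN, mem_normalizer_iff]
          intro z
          rw [hP']
          constructor
          · rintro ⟨w, hw, rfl⟩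
            exact ⟨y * w * y⁻¹, (mem_normalizer_iff.1 hy w).1 hw, rfl⟩
          · rintro ⟨w, hw, hw'⟩
            refine ⟨y⁻¹ * w * y, ?_, ?_⟩
            · have := (mem_normalizer_iff.1 ((normalizer ((P : Subgroup Y) : Set Y)).inv_mem hy) w).1 hw
              rwa [inv_inv] at this
            · have h4 : (w : X) = y * z * (y : X)⁻¹ := hw'
              change (y : X)⁻¹ * w * y = z
              rw [h4]; group
      rw [h2]
      exact (Nat.card_congr ((normalizer ((P : Subgroup Y) : Set Y)).equivMapOfInjective _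
        Y.subtype_injective).toEquiv).symm
    rw [h1] at hfr
    rw [← Subgroup.card_eq_iff_eq_top]
    apply le_antisymm (Subgroup.card_le_card_group Y)
    have h3 : Nat.card N ≤ 168 := Nat.le_of_dvd (by norm_num) hNd
    have h4 : Nat.card X * 168 ≤ 168 * Nat.card Y := by
      rw [hfr]
      exact Nat.mul_le_mul_right _ h3
    omega

end main

end Cfsg.Agent.H963.ReeSep
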