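import Mathlib
import Cfsg.Agent.H963.ReeSep

/-!
# Five pairwise separated subgroups of a small Ree group: the five subgroups
-/

set_option autoImplicit false
set_option linter.unusedSectionVars false

namespace Cfsg.Agent.H963.ReeSepB

open Subgroup
open Cfsg.Agent.LieRecognition
open Cfsg.Agent.H963.ReeCtx
open Cfsg.Agent.H963.ReeSep
open Cfsg.Agent.H940.MaxCls

variable {G : Type} [Group G] [Finite G] {m : ℕ}

theorem map_ne_bot {X : Subgroup G} {M : Subgroup X} (hM : M ≠ ⊥) : M.map X.subtype ≠ ⊥ :=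
  fun h0 => hM ((Subgroup.map_eq_bot_iff_of_injective _ X.subtype_injective).1 h0)

theorem map_norm {X : Subgroup G} {M : Subgroup X} (hMn : M.Normal) :
    ∀ g ∈ X, ∀ x ∈ M.map X.subtype, g⁻¹ * x * g ∈ M.map X.subtype := by
  rintro g hg _ ⟨x, hx, rfl⟩
  refine ⟨⟨g, hg⟩⁻¹ * x * ⟨g, hg⟩, ?_, rfl⟩
  have := hMn.conj_mem x hx (⟨g, hg⟩⁻¹)
  rwa [inv_inv] at this

theorem le_normalizer_of {X M : Subgroup G} (h : ∀ g ∈ X, ∀ x ∈ M, g⁻¹ * x * g ∈ M) :
    X ≤ normalizer (M : Set G) := by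
  intro g hg
  rw [mem_normalizer_iff]
  intro y
  constructor
  · intro hy
    have := h g⁻¹ (X.inv_mem hg) y hy
    rwa [inv_inv] at this
  · intro hy
    have := h g hg _ hy
    have h2 : g⁻¹ * (g * y * g⁻¹) * g = y := by group
    rwa [h2] at this

theorem card_map_subtype {X : Subgroup G} (M : Subgroup X) : Nat.card (M.map X.subtype) = Nat.card M :=
  (Nat.card_congr (M.equivMapOfInjective _ X.subtype_injective).toEquiv).symm

/-- the order of `G` is large -/
theorem card_gt (C : Ctx G m) : (3 ^ (2 * m + 1)) ^ 3 < Nat.card G := by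
  have A := (ar C.hm).q27
  rw [C.card_G]
  generalize 3 ^ (2 * m + 1) = q at A
  have h1 : 0 < q ^ 3 := by positivity
  have h2 : 2 ≤ q - 1 := by omega
  calc q ^ 3 < q ^ 3 * 2 := by omega
    _ ≤ q ^ 3 * (q - 1) := Nat.mul_le_mul_left _ h2
    _ ≤ q ^ 3 * (q - 1) * (q ^ 3 + 1) := Nat.le_mul_of_pos_right _ (by omega)

theorem ne_top_of_card (C : Ctx G m) {X : Subgroup G} (h : Nat.card X ≤ (3 ^ (2 * m + 1)) ^ 3) : X ≠ ⊤ := by
  rintro rfl
  rw [Subgroup.card_top] at h
  exact absurd (card_gt C) (not_lt.2 h)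

theorem not_eight (m : ℕ) : ¬ 8 ∣ (3 ^ (2 * m + 1)) ^ 3 * (3 ^ (2 * m + 1) - 1) := by
  intro h
  have h8 := (ReeClass.arith m).q8
  have h1 : Nat.Coprime 8 ((3 ^ (2 * m + 1)) ^ 3) := by
    rw [show 8 = 2 ^ 3 by norm_num, ← pow_mul]
    exact Nat.Coprime.pow _ _ (by norm_num)
  have h2 := h1.dvd_of_dvd_mul_left h
  generalize 3 ^ (2 * m + 1) = q at h8 h2
  omega

/-- normal subgroups of odd prime power order -/
theorem odd_elim (C : Ctx G m) (X : Subgroup G) (h8 : 8 ∣ Nat.card X) {s : ℕ} (hs : s.Prime) (hs2 : s ≠ 2)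
    {M : Subgroup G} (hM : IsPGroup s M) (hM1 : M ≠ ⊥) (hn : ∀ g ∈ X, ∀ x ∈ M, g⁻¹ * x * g ∈ M) :
    Nat.card X ∣ 6 * (3 ^ (2 * m + 1) + 1) := by
  have h1 := (ar C.hm).q8
  have a1 := (IsA.facts (m := m) (Or.inl rfl) C.hm).2.2.1
  have a2 := (IsA.facts (m := m) (Or.inr rfl) C.hm).2.2.1
  rcases C.odd X M s hs hs2 hM hM1 hn with h | h | h | h | h
  · exact absurd (h8.trans h) (not_eight m)
  · have := h8.trans h
    generalize 3 ^ (2 * m + 1) = q at h1 this
    omega
  · exact h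
  · have := h8.trans h
    generalize 3 ^ (2 * m + 1) - 3 ^ (m + 1) + 1 = a at a1 this
    omega
  · have := h8.trans h
    generalize 3 ^ (2 * m + 1) + 3 ^ (m + 1) + 1 = a at a2 this
    omega

theorem eight_dvd_cent (m : ℕ) : 8 ∣ 3 ^ (2 * m + 1) * ((3 ^ (2 * m + 1)) ^ 2 - 1) := by
  have h8 := (ReeClass.arith m).q8
  generalize 3 ^ (2 * m + 1) = q at h8
  obtain ⟨k, rfl⟩ : ∃ k, q = 8 * k + 3 := ⟨q / 8, by omega⟩
  have h1 : (8 * k + 3) ^ 2 - 1 = 8 * (8 * k ^ 2 + 6 * k + 1) := by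
    have : (8 * k + 3) ^ 2 = 8 * (8 * k ^ 2 + 6 * k + 1) + 1 := by ring
    omega
  rw [h1]
  exact Dvd.dvd.mul_left (Nat.dvd_mul_right _ _) _

theorem cent_size {q : ℕ} (hq : 27 ≤ q) : 19656 ≤ q * (q ^ 2 - 1) ∧ 6 * (q + 1) < q * (q ^ 2 - 1) := by
  have h1 : 728 ≤ q ^ 2 - 1 := by
    have : 27 ^ 2 ≤ q ^ 2 := Nat.pow_le_pow_left hq 2
    omega
  constructor
  · calc 19656 = 27 * 728 := by norm_num
      _ ≤ q * (q ^ 2 - 1) := Nat.mul_le_mul hq h1
  · calc 6 * (q + 1) < q * 728 := by omega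
      _ ≤ q * (q ^ 2 - 1) := Nat.mul_le_mul_left _ h1

theorem fit_of_large (C : Ctx G m) {t : G} (ht1 : t ≠ 1) (ht2 : t * t = 1) (X : Subgroup G)
    (hX : centralizer {t} < X) : Fit X := by
  have A := ar C.hm
  have hc := C.cardC t ht1 ht2
  have hle := Subgroup.card_le_of_le hX.le
  have hlt : Nat.card (centralizer {t} : Subgroup G) < Nat.card X := by
    refine lt_of_le_of_ne hle fun h => hX.ne (Subgroup.eq_of_le_of_card_ge hX.le h.ge)
  have h8 : 8 ∣ Nat.card X := by
    refine (eight_dvd_cent m).trans ?_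
    rw [← hc]
    exact Subgroup.card_dvd_of_le hX.le
  have hsz := cent_size A.q27
  rw [← hc] at hsz
  intro s hs M hMn hMp
  by_contra hM1
  by_cases hs2 : s = 2
  · subst hs2
    have fact2 : Fact (Nat.Prime 2) := ⟨Nat.prime_two⟩
    set M' := M.map X.subtype with hM'
    have hM'p : IsPGroup 2 M' := hMp.map _
    have hM'1 : M' ≠ ⊥ := map_ne_bot hM1
    have hM'n := map_norm hMn
    have hXM := le_normalizer_of hM'n
    obtain ⟨P, hP⟩ := hM'p.exists_le_sylow
    have hd : Nat.card M' ∣ 2 ^ 3 := by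
      have := Subgroup.card_dvd_of_le hP
      have h4 : Nat.card (P : Subgroup G) = 8 := C.card2 P
      rw [h4] at this
      exact this
    obtain ⟨k, hk, hk'⟩ := (Nat.dvd_prime_pow Nat.prime_two).1 hd
    have hk4 : k = 0 ∨ k = 1 ∨ k = 2 ∨ k = 3 := by omega
    rcases hk4 with rfl | rfl | rfl | rfl
    · rw [pow_zero] at hk'
      exact hM'1 (Subgroup.eq_bot_of_card_eq _ hk')
    · rw [pow_one] at hk'
      obtain ⟨⟨x, hx⟩, hx1'⟩ := Subgroup.ne_bot_iff_exists_ne_one.1 hM'1
      have hx1 : x ≠ 1 := fun h => hx1' (Subtype.ext h)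
      have hxx := two_sq C hM'p x hx
      have hox : orderOf x = 2 := orderOf_eq_prime (by rw [pow_two, hxx]) hx1
      have hz : zpowers x = M' := by
        apply Subgroup.eq_of_le_of_card_ge
        · rw [Subgroup.zpowers_le]; exact hx
        · rw [Nat.card_zpowers, hox, hk']
      have h1 : ∀ y ∈ M', y = 1 ∨ y = x := by
        intro y hy
        rw [← hz, Subgroup.mem_zpowers_iff] at hy
        obtain ⟨n, rfl⟩ := hy
        rcases Int.even_or_odd' n with ⟨c, rfl | rfl⟩
        · left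
          rw [zpow_mul, zpow_ofNat, pow_two, hxx, one_zpow]
        · right
          rw [zpow_add, zpow_mul, zpow_ofNat, pow_two, hxx, one_zpow, one_mul, zpow_one]
      have h2 : X ≤ centralizer {x} := by
        intro g hg
        rw [mem_centralizer_singleton_iff]
        rcases h1 _ (hM'n g hg x hx) with h3 | h3
        · exfalso
          apply hx1
          calc x = g * (g⁻¹ * x * g) * g⁻¹ := by group
            _ = 1 := by rw [h3]; group
        · calc g * x = g * (g⁻¹ * x * g) := by rw [h3]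
            _ = x * g := by group
      have h3 := Subgroup.card_le_of_le h2
      rw [C.cardC x hx1 hxx, ← hc] at h3
      omega
    · have h1 := C.four M' (by rw [hk']; norm_num) (two_sq C hM'p)
      have h2 := Subgroup.card_le_of_le hXM
      rw [h1] at h2
      omega
    · have h1 : M' = P := Subgroup.eq_of_le_of_card_ge hP (by
        rw [hk']
        exact (C.card2 P).le)
      have h2 := Subgroup.card_le_of_le hXM
      rw [← hM', h1, C.norm2 P] at h2
      omega
  · have h1 := odd_elim C X h8 hs hs2 (hMp.map X.subtype) (map_ne_bot hM1) (map_norm hMn)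
    have h2 := Nat.le_of_dvd (by positivity) h1
    omega

/-- a simple subgroup `L` of `X` lies in the normal subgroup `Y` -/
theorem simple_le (C : Ctx G m) (X : Subgroup G) (Y : Subgroup X) (hYn : Y.Normal) (h4 : 4 ∣ Nat.card Y)
    (L : Subgroup G) [IsSimpleGroup L] (hL4 : 4 ∣ Nat.card L) (hLX : L ≤ X) : L ≤ Y.map X.subtype := by
  have hn : ((Y.map X.subtype).subgroupOf L).Normal := by
    refine ⟨fun n hn g => ?_⟩
    rw [Subgroup.mem_subgroupOf] at hn ⊢
    have := map_norm hYn (g : G)⁻¹ (X.inv_mem (hLX g.2)) _ hn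
    rw [inv_inv] at this
    exact this
  rcases hn.eq_bot_or_eq_top with h | h
  · exfalso
    have h1 := card_mul_dvd (L.subgroupOf X) Y hYn (by
      rintro ⟨x, hxX⟩ hx hxY
      rw [Subgroup.mem_subgroupOf] at hx
      have h2 : (⟨x, hx⟩ : L) ∈ (Y.map X.subtype).subgroupOf L := by
        rw [Subgroup.mem_subgroupOf]
        exact ⟨⟨x, hxX⟩, hxY, rfl⟩
      rw [h, Subgroup.mem_bot] at h2
      have h3 : x = 1 := congrArg Subtype.val h2
      exact Subtype.ext h3)
    rw [Nat.card_congr (Subgroup.subgroupOfEquivOfLe hLX).toEquiv] at h1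
    apply not16 C
    calc 16 = 4 * 4 := by norm_num
      _ ∣ Nat.card L * Nat.card Y := Nat.mul_dvd_mul hL4 h4
      _ ∣ Nat.card X := h1
      _ ∣ Nat.card G := Subgroup.card_subgroup_dvd_card X
  · rw [Subgroup.subgroupOf_eq_top] at h
    exact h

theorem cube_mono {q r : ℕ} (h : r < q) (hr : 1 ≤ r) : r * (r ^ 2 - 1) < q * (q ^ 2 - 1) := by
  have h1 : r ^ 2 < q ^ 2 := Nat.pow_lt_pow_left h two_ne_zero
  have h2 : 1 ≤ r ^ 2 := Nat.one_le_pow _ _ hr
  calc r * (r ^ 2 - 1) ≤ q * (r ^ 2 - 1) := Nat.mul_le_mul_right _ h.le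
    _ < q * (q ^ 2 - 1) := Nat.mul_lt_mul_of_pos_left (by omega) (by omega)

theorem card_mono (C : Ctx G m) {Y : Type} [Group Y] [Finite Y] {l : ℕ} (hl : Ctx Y l)
    (h : 3 ^ (2 * m + 1) ≤ 3 ^ (2 * l + 1)) : Nat.card G ≤ Nat.card Y := by
  rw [C.card_G, hl.card_G]
  exact Nat.mul_le_mul (Nat.mul_le_mul (Nat.pow_le_pow_left h 3) (Nat.sub_le_sub_right h 1))
    (Nat.add_le_add_right (Nat.pow_le_pow_left h 3) 1)

theorem top_ne_bot' {X : Subgroup G} (h : 1 < Nat.card X) : (⊤ : Subgroup X) ≠ ⊥ := by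
  intro h1
  have h2 : Nat.card (⊤ : Subgroup X) = 1 := by rw [h1, Subgroup.card_bot]
  rw [Subgroup.card_top] at h2
  omega

/-- centralisers of involutions are maximal -/
theorem coatom_centralizer (C : Ctx G m) (W : Kinds) {t : G} (ht1 : t ≠ 1) (ht2 : t * t = 1) :
    IsCoatom (centralizer {t} : Subgroup G) := by
  have A := ar C.hm
  have hc := C.cardC t ht1 ht2
  obtain ⟨L, hL, hLC, htL, hLcard⟩ := C.comp t ht1 ht2
  have hL4 : 4 ∣ Nat.card L := (psl_four (Or.inl A.q8) hLcard).1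
  refine ⟨ne_top_of_card C ?_, fun X hX => ?_⟩
  · rw [hc]
    calc 3 ^ (2 * m + 1) * ((3 ^ (2 * m + 1)) ^ 2 - 1) ≤ 3 ^ (2 * m + 1) * (3 ^ (2 * m + 1)) ^ 2 :=
          Nat.mul_le_mul_left _ (Nat.sub_le _ _)
      _ = (3 ^ (2 * m + 1)) ^ 3 := by ring
  by_contra hXt
  have hfit := fit_of_large C ht1 ht2 X hX
  have hsz := cent_size A.q27
  have hle := Subgroup.card_le_of_le hX.le
  rw [hc] at hle
  have htX : t ∈ X := hX.le (mem_centralizer_singleton_iff.2 rfl)
  obtain ⟨Y, hYn, -, hYs, hYna, hcand, h4⟩ := exists_simple C W X hfit ⊤ inferInstance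
    (top_ne_bot' (by omega))
  have hLY := simple_le C X Y hYn h4 L hL4 (hLC.trans hX.le)
  rcases hcand with ⟨F, _, _, hF, ⟨e⟩⟩ | ⟨F, _, _, hF, hF5, ⟨e⟩⟩ | ⟨l, hl⟩
  · have h1 := Cfsg.Agent.SmallSimple.PSLTwoPart.card_psl_two_even (F := F) (by rw [hF]; decide)
    rw [← Nat.card_congr e.toEquiv, hF] at h1
    have h2 := (big_two C X Y hYn (by rw [h1]; norm_num)).1
    rw [h1] at h2
    have h3 := Nat.le_of_dvd (by norm_num) h2
    norm_num at h3
    omega
  · have h1 := Cfsg.Agent.SmallSimple.PSLTwoPart.card_psl_two_odd (F := F) (by rw [Nat.odd_iff]; omega)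
    rw [← Nat.card_congr e.toEquiv] at h1
    have hLle : Nat.card L ≤ Nat.card Y := by
      rw [← card_map_subtype Y]; exact Subgroup.card_le_of_le hLY
    let ψ : Matrix.ProjectiveSpecialLinearGroup (Fin 2) F →* G :=
      (X.subtype.comp Y.subtype).comp e.symm.toMonoidHom
    have hψ : Function.Injective ψ :=
      (X.subtype_injective.comp Y.subtype_injective).comp e.symm.injective
    obtain ⟨s, hs⟩ := CharP.exists F
    obtain ⟨c, hsp, hc'⟩ := FiniteField.card F s
    have hs2 : s ≠ 2 := by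
      rintro rfl
      have : 2 ∣ Fintype.card F := by
        rw [hc']; exact dvd_pow_self 2 c.ne_zero
      omega
    by_cases hs3 : s = 3
    · subst hs3
      have h38 := pow_three_mod (c : ℕ)
      rw [← hc'] at h38
      have hq4 : Fintype.card F % 4 = 3 := by omega
      have hT := ReePSL.card_T (K := F) hq4
      have hcyc := (ReePSL.torus (K := F) hq4).cyc
      obtain ⟨g, hg⟩ := hcyc.exists_generator
      have hgo : orderOf g = Nat.card (ReePSL.T F) := orderOf_eq_card_of_forall_mem_zpowers hg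
      have hgo' : orderOf (ψ (g : ReePSL.L F)) = Nat.card (ReePSL.T F) := by
        rw [orderOf_injective ψ hψ, Subgroup.orderOf_coe, hgo]
      have hord := C.orders (ψ (g : ReePSL.L F))
      rw [hgo'] at hord
      have h27 := A.q27
      have h3s := A.sle
      have hs9 := A.s9'
      have hbd : Nat.card (ReePSL.T F) ≤ 3 ^ (2 * m + 1) + 3 ^ (m + 1) + 1 := by
        rcases hord with h | h | h | h | h | h
        · have := Nat.le_of_dvd (by norm_num) h; omega
        · have := Nat.le_of_dvd (by norm_num) h; omega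
        · have := Nat.le_of_dvd (by omega) h; omega
        · have := Nat.le_of_dvd (by omega) h; omega
        · have := Nat.le_of_dvd (by omega) h; omega
        · exact Nat.le_of_dvd (by omega) h
      have hcm : (c : ℕ) ≤ 2 * m + 1 := by
        by_contra hcm
        have h5 : 3 ^ (2 * m + 1 + 1) ≤ 3 ^ (c : ℕ) := Nat.pow_le_pow_right (by norm_num) (by omega)
        rw [← hc', pow_succ] at h5
        omega
      have hFq : Fintype.card F ≤ 3 ^ (2 * m + 1) := by
        rw [hc']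
        exact Nat.pow_le_pow_right (by norm_num) hcm
      have h6 : 2 * Nat.card Y ≤ 2 * Nat.card L := by
        rw [h1, hLcard]
        exact Nat.mul_le_mul hFq (Nat.sub_le_sub_right (Nat.pow_le_pow_left hFq 2) 1)
      have h7 : L = Y.map X.subtype := Subgroup.eq_of_le_of_card_ge hLY (by
        rw [card_map_subtype]; omega)
      have h8 := cent_bot C W X hfit Y hYn hYna h4 ⟨t, htX⟩ (by
        intro y hy
        have h9 : (y : G) ∈ L := by
          rw [h7]
          exact ⟨y, hy, rfl⟩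
        have h10 := mem_centralizer_singleton_iff.1 (hLC h9)
        exact Subtype.ext h10.symm)
      exact ht1 (congrArg Subtype.val h8)
    · have hs5 : 5 ≤ s := by
        have := hsp.two_le
        by_contra h
        interval_cases s
        · exact hs2 rfl
        · exact hs3 rfl
        · exact absurd hsp (by norm_num)
      have h2 := C.psl F s hsp hs5 ψ hψ
      have h3 : Fintype.card F * (Fintype.card F ^ 2 - 1) ≤ 13 * (13 ^ 2 - 1) :=
        Nat.mul_le_mul h2 (Nat.sub_le_sub_right (Nat.pow_le_pow_left h2 2) 1)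
      norm_num at h3
      omega
  · have hYt : Y = ⊤ := (big_two C X Y hYn (card_sylow_dvd hl.card2)).2 hl.norm2
    have htY : (⟨t, htX⟩ : X) ∈ Y := by rw [hYt]; trivial
    have h1 := hl.cardC ⟨⟨t, htX⟩, htY⟩ (by
      intro h
      exact ht1 (congrArg (fun z : Y => ((z : X) : G)) h)) (Subtype.ext (Subtype.ext ht2))
    have h2 : centralizer {t} ≤ (centralizer {(⟨⟨t, htX⟩, htY⟩ : Y)} : Subgroup Y).map
        (X.subtype.comp Y.subtype) := by
      intro z hz
      refine ⟨⟨⟨z, hX.le hz⟩, by rw [hYt]; trivial⟩, ?_, rfl⟩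
      rw [SetLike.mem_coe, mem_centralizer_singleton_iff]
      exact Subtype.ext (Subtype.ext (mem_centralizer_singleton_iff.1 hz))
    have h3 := Subgroup.card_le_of_le h2
    rw [← Nat.card_congr ((centralizer {(⟨⟨t, htX⟩, htY⟩ : Y)} : Subgroup Y).equivMapOfInjective _
      (X.subtype_injective.comp Y.subtype_injective)).toEquiv, hc, h1] at h3
    have h4 : 3 ^ (2 * m + 1) ≤ 3 ^ (2 * l + 1) := by
      by_contra h5
      exact absurd h3 (not_le.2 (cube_mono (not_le.1 h5) (Nat.one_le_pow _ _ (by norm_num))))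
    apply hXt
    rw [← Subgroup.card_eq_iff_eq_top]
    apply le_antisymm (Subgroup.card_le_card_group X)
    exact (card_mono C hl h4).trans (Subgroup.card_le_card_group Y)

/-- a subgroup containing the normaliser of a Sylow `2`-subgroup and an element of order `q ∓ s + 1` -/
theorem norm_two_false (C : Ctx G m) (W : Kinds) (S : Sylow 2 G) (X : Subgroup G) (hX : X ≠ ⊤)
    (hS : normalizer ((S : Subgroup G) : Set G) ≤ X) {a : ℕ} (ha : IsA m a) (x : G) (hx : x ∈ X)
    (hxo : orderOf x = a) : False := by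
  have fact2 : Fact (Nat.Prime 2) := ⟨Nat.prime_two⟩
  obtain ⟨a19, a9, a2, a3⟩ := ha.facts C.hm
  have A := ar C.hm
  have hSX : (S : Subgroup G) ≤ X := Subgroup.le_normalizer.trans hS
  have hS8 : Nat.card (S : Subgroup G) = 8 := C.card2 S
  have h8 : 8 ∣ Nat.card X := by
    rw [← hS8]; exact Subgroup.card_dvd_of_le hSX
  have hax : a ∣ Nat.card X := by
    have := orderOf_dvd_natCard (⟨x, hx⟩ : X)
    rwa [Subgroup.orderOf_mk, hxo] at this
  have htrans : ∀ M' : Subgroup G, (∀ g ∈ X, ∀ x ∈ M', g⁻¹ * x * g ∈ M') → ∀ x ∈ M', x ∈ S → x ≠ 1 →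
      (S : Subgroup G) ≤ M' := by
    intro M' hM' x hx hxS hx1 y hy
    by_cases hy1 : y = 1
    · rw [hy1]; exact M'.one_mem
    obtain ⟨n, hn, rfl⟩ := C.trans2 S x hxS hx1 y hy hy1
    have := hM' n⁻¹ (X.inv_mem (hS hn)) x hx
    rwa [inv_inv] at this
  have hfit : Fit X := by
    intro s hs M hMn hMp
    by_contra hM1
    by_cases hs2 : s = 2
    · subst hs2
      set M' := M.map X.subtype with hM'
      have hM'p : IsPGroup 2 M' := hMp.map _
      have hM'1 : M' ≠ ⊥ := map_ne_bot hM1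
      have hM'n := map_norm hMn
      have hXM := le_normalizer_of hM'n
      have h1 : IsPGroup 2 ((S : Subgroup G) ⊔ M' : Subgroup G) :=
        IsPGroup.to_sup_of_normal_right' S.isPGroup' hM'p (hSX.trans hXM)
      have h2 : M' ≤ S := by
        have := S.is_maximal' h1 le_sup_left
        rw [← this]
        exact le_sup_right
      obtain ⟨⟨z, hz⟩, hz1'⟩ := Subgroup.ne_bot_iff_exists_ne_one.1 hM'1
      have hz1 : z ≠ 1 := fun h => hz1' (Subtype.ext h)
      have h3 : M' = S := le_antisymm h2 (htrans M' hM'n z hz (h2 hz) hz1)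
      have h4 := hax.trans (Subgroup.card_dvd_of_le hXM)
      rw [← hM', h3, C.norm2 S] at h4
      have h5 : Nat.Coprime a 24 := ha.cop 3 1 0 0 (by norm_num)
      have h6 : a ∣ 7 := h5.dvd_of_dvd_mul_left (by norm_num; exact h4)
      have := Nat.le_of_dvd (by norm_num) h6
      omega
    · have h1 := odd_elim C X h8 hs hs2 (hMp.map X.subtype) (map_ne_bot hM1) (map_norm hMn)
      refine ha.not_dvd C.hm 1 1 0 1 ?_ (hax.trans h1)
      rw [pow_one, pow_one, pow_one, pow_zero, mul_one]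
  obtain ⟨Y, hYn, -, hYs, hYna, hcand, h4⟩ := exists_simple C W X hfit ⊤ inferInstance
    (top_ne_bot' (by have := Nat.le_of_dvd Nat.card_pos h8; omega))
  have hSY : (S : Subgroup G) ≤ Y.map X.subtype := by
    by_contra hcon
    have h1 := card_mul_dvd ((S : Subgroup G).subgroupOf X) Y hYn (by
      rintro ⟨z, hzX⟩ hz hzY
      rw [Subgroup.mem_subgroupOf] at hz
      by_contra hz1
      apply hcon
      refine htrans _ (map_norm hYn) z ⟨⟨z, hzX⟩, hzY, rfl⟩ hz fun h => hz1 (Subtype.ext h))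
    rw [Nat.card_congr (Subgroup.subgroupOfEquivOfLe hSX).toEquiv, hS8] at h1
    apply not16 C
    calc 16 ∣ 8 * 4 := by norm_num
      _ ∣ 8 * Nat.card Y := Nat.mul_dvd_mul_left _ h4
      _ ∣ Nat.card X := h1
      _ ∣ Nat.card G := Subgroup.card_subgroup_dvd_card X
  have h8Y : 8 ∣ Nat.card Y := by
    rw [← hS8, ← card_map_subtype Y]
    exact Subgroup.card_dvd_of_le hSY
  rcases hcand with ⟨F, _, _, hF, ⟨e⟩⟩ | ⟨F, _, _, hF, hF5, ⟨e⟩⟩ | ⟨l, hl⟩
  · have h1 := Cfsg.Agent.SmallSimple.PSLTwoPart.card_psl_two_even (F := F) (by rw [hF]; decide)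
    rw [← Nat.card_congr e.toEquiv, hF] at h1
    have h2 := (big_two C X Y hYn h8Y).1
    rw [h1] at h2
    have h3 := hax.trans h2
    norm_num at h3
    have h5 : Nat.Coprime a 216 := ha.cop 3 3 0 0 (by norm_num)
    have h6 : a ∣ 7 ^ 2 := h5.dvd_of_dvd_mul_left (by norm_num; exact h3)
    obtain ⟨k, hk, rfl⟩ := (Nat.dvd_prime_pow (by norm_num)).1 h6
    have hk3 : k = 0 ∨ k = 1 ∨ k = 2 := by omega
    rcases hk3 with rfl | rfl | rfl
    · norm_num at a19
    · norm_num at a19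
    · norm_num at a9
  · have h1 := Cfsg.Agent.SmallSimple.PSLTwoPart.card_psl_two_odd (F := F) (by rw [Nat.odd_iff]; omega)
    rw [← Nat.card_congr e.toEquiv] at h1
    exact (psl_four hF h1).2 h8Y
  · have hYt : Y = ⊤ := (big_two C X Y hYn h8Y).2 hl.norm2
    have hlm : l < m := by
      by_contra hlm
      apply hX
      rw [← Subgroup.card_eq_iff_eq_top]
      apply le_antisymm (Subgroup.card_le_card_group X)
      exact (card_mono C hl (Nat.pow_le_pow_right (by norm_num) (by omega))).trans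
        (Subgroup.card_le_card_group Y)
    have hxY : (⟨x, hx⟩ : X) ∈ Y := by rw [hYt]; trivial
    have hord := hl.orders ⟨⟨x, hx⟩, hxY⟩
    rw [Subgroup.orderOf_mk, Subgroup.orderOf_mk, hxo] at hord
    have B := ar hl.hm
    have b1 := B.q27
    have b2 := B.sle
    have h9 : 9 * 3 ^ (2 * l + 1) ≤ 3 ^ (2 * m + 1) := by
      calc 9 * 3 ^ (2 * l + 1) = 3 ^ (2 * l + 1 + 2) := by rw [pow_add]; ring
        _ ≤ 3 ^ (2 * m + 1) := Nat.pow_le_pow_right (by norm_num) (by omega)
    rcases hord with h | h | h | h | h | h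
    · have := Nat.le_of_dvd (by norm_num) h; omega
    · have := Nat.le_of_dvd (by norm_num) h; omega
    · have := Nat.le_of_dvd (by omega) h; omega
    · have := Nat.le_of_dvd (by omega) h; omega
    · have := Nat.le_of_dvd (by omega) h; omega
    · have := Nat.le_of_dvd (by omega) h; omega

theorem apart_card {A B : Subgroup G} (hA : IsCoatom A) (h : ¬ Nat.card B ∣ Nat.card A) : Apart A B := by
  apply apart_of_coatom hA
  intro g
  by_contra hcon
  push Not at hcon
  apply h
  rw [← card_map_conj g B]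
  exact Subgroup.card_dvd_of_le (map_conj_le hcon)

theorem exists_inv (C : Ctx G m) : ∃ t : G, t ≠ 1 ∧ t * t = 1 := by
  obtain ⟨P⟩ : Nonempty (Sylow 2 G) := inferInstance
  have h1 : (P : Subgroup G) ≠ ⊥ := by
    intro h
    have h2 : Nat.card (P : Subgroup G) = 8 := C.card2 P
    rw [h, Subgroup.card_bot] at h2
    omega
  obtain ⟨⟨x, hx⟩, hx1⟩ := Subgroup.ne_bot_iff_exists_ne_one.1 h1
  exact ⟨x, fun h => hx1 (Subtype.ext h), C.sq P x hx⟩

/-- **five separated subgroups** -/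
theorem five (C : Ctx G m) (W : Kinds)
    (hB : ∃ B : Subgroup G, IsCoatom B ∧ Nat.card B = (3 ^ (2 * m + 1)) ^ 3 * (3 ^ (2 * m + 1) - 1))
    (hZ : ∀ X : Subgroup G, X ≠ ⊤ → (3 ^ (2 * m + 1)) ^ 2 - 3 ^ (2 * m + 1) + 1 ∣ Nat.card X →
      Nat.card X ≤ 6 * (3 ^ (2 * m + 1) + 3 ^ (m + 1) + 1)) : Sep 5 G := by
  have A := ar C.hm
  obtain ⟨B, hBc, hB⟩ := hB
  obtain ⟨t, ht1, ht2⟩ := exists_inv C
  obtain ⟨S⟩ : Nonempty (Sylow 2 G) := inferInstance
  obtain ⟨A1, hA1c, hA1, hN1⟩ := C.torA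
  obtain ⟨A2, hA2c, hA2, hN2⟩ := C.torB
  have hCc := coatom_centralizer C W ht1 ht2
  have hcC := C.cardC t ht1 ht2
  have hS := C.norm2 S
  have i1 : IsA m (3 ^ (2 * m + 1) - 3 ^ (m + 1) + 1) := Or.inl rfl
  have i2 : IsA m (3 ^ (2 * m + 1) + 3 ^ (m + 1) + 1) := Or.inr rfl
  have q27 := A.q27
  have sle := A.sle
  have hq3 : 729 * 3 ^ (2 * m + 1) ≤ (3 ^ (2 * m + 1)) ^ 3 := by
    generalize 3 ^ (2 * m + 1) = q at q27
    calc 729 * q ≤ (q * q) * q := Nat.mul_le_mul_right _ (Nat.mul_le_mul q27 q27)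
      _ = q ^ 3 := by ring
  have hgen : ∀ {A : Subgroup G} {a : ℕ}, IsCyclic A → Nat.card A = a → ∃ x ∈ normalizer (A : Set G),
      orderOf x = a := by
    intro A a hA ha
    obtain ⟨g, hg⟩ := hA.exists_generator
    exact ⟨g, Subgroup.le_normalizer g.2, by
      rw [Subgroup.orderOf_coe, orderOf_eq_card_of_forall_mem_zpowers hg, ha]⟩
  have hBa : ∀ {a : ℕ}, IsA m a → ¬ 6 * a ∣ (3 ^ (2 * m + 1)) ^ 3 * (3 ^ (2 * m + 1) - 1) := by
    intro a ha h
    refine ha.not_dvd C.hm 0 ((2 * m + 1) * 3) 1 0 ?_ ((Nat.dvd_mul_left _ _).trans h)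
    rw [pow_mul, pow_zero, pow_zero, pow_one, one_mul, mul_one]
  have hCa : ∀ {a : ℕ}, IsA m a → ¬ 6 * a ∣ 3 ^ (2 * m + 1) * ((3 ^ (2 * m + 1)) ^ 2 - 1) := by
    intro a ha h
    refine ha.not_dvd C.hm 0 (2 * m + 1) 1 1 ?_ ((Nat.dvd_mul_left _ _).trans h)
    have h4 : (3 ^ (2 * m + 1)) ^ 2 - 1 = (3 ^ (2 * m + 1) + 1) * (3 ^ (2 * m + 1) - 1) := by
      have := Nat.sq_sub_sq (3 ^ (2 * m + 1)) 1
      rwa [one_pow] at this
    rw [h4, pow_zero, pow_one, pow_one, one_mul, mul_assoc, mul_comm (3 ^ (2 * m + 1) - 1)]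
  have hSa : ∀ {A : Subgroup G} {a : ℕ}, IsCyclic A → Nat.card A = a → IsA m a →
      Apart (normalizer ((S : Subgroup G) : Set G)) (normalizer (A : Set G)) := by
    intro A a hA hAa ha g K h1 h2
    by_contra hK
    obtain ⟨x, hx, hxo⟩ := hgen hA hAa
    refine norm_two_false C W S K hK h1 ha (g * x * g⁻¹) (h2 x hx) ?_
    have h3 := ReeClass.orderOf_conj x g⁻¹
    rw [inv_inv] at h3
    rw [h3, hxo]
  refine sep_five (A := B) (B := centralizer {t}) (C := normalizer ((S : Subgroup G) : Set G))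
    (D := normalizer (A1 : Set G)) (E := normalizer (A2 : Set G)) hBc.1 hCc.1 ?_ ?_ ?_ ?_ ?_ ?_ ?_ ?_ ?_ ?_
    (hSa hA1c hA1 i1) (hSa hA2c hA2 i2) ?_
  · apply ne_top_of_card C
    rw [hS]; omega
  · apply ne_top_of_card C
    rw [hN1]; omega
  · apply ne_top_of_card C
    rw [hN2]; omega
  · apply apart_card hBc
    rw [hB, hcC]
    exact fun h => not_eight m ((eight_dvd_cent m).trans h)
  · apply apart_card hBc
    rw [hB, hS]
    exact fun h => not_eight m (Dvd.dvd.trans (by norm_num) h)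
  · apply apart_card hBc
    rw [hB, hN1]
    exact hBa i1
  · apply apart_card hBc
    rw [hB, hN2]
    exact hBa i2
  · apply apart_of_coatom hCc
    intro g
    by_contra hcon
    push Not at hcon
    have h0 : ∀ x ∈ normalizer ((S : Subgroup G) : Set G), t * (g * x * g⁻¹) = g * x * g⁻¹ * t := by
      intro x hx
      exact (mem_centralizer_singleton_iff.1 (hcon x hx)).symm
    set t' := g⁻¹ * t * g with ht'
    have h1 : ∀ x ∈ normalizer ((S : Subgroup G) : Set G), x * t' = t' * x := by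
      intro x hx
      have := h0 x hx
      calc x * t' = g⁻¹ * (g * x * g⁻¹ * t) * g := by rw [ht']; group
        _ = g⁻¹ * (t * (g * x * g⁻¹)) * g := by rw [this]
        _ = t' * x := by rw [ht']; group
    have ht'S : t' ∈ S := by
      have : t' ∈ centralizer ((S : Subgroup G) : Set G) := by
        rw [mem_centralizer_iff]
        exact fun y hy => h1 y (Subgroup.le_normalizer hy)
      rw [C.cent2 S] at this
      exact this
    have ht'1 : t' ≠ 1 := by
      intro h
      apply ht1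
      calc t = g * t' * g⁻¹ := by rw [ht']; group
        _ = 1 := by rw [h]; group
    have hS8 : Nat.card (S : Subgroup G) = 8 := C.card2 S
    have h2 : (S : Subgroup G) ≤ zpowers t' := by
      intro y hy
      by_cases hy1 : y = 1
      · rw [hy1]; exact one_mem _
      obtain ⟨n, hn, hny⟩ := C.trans2 S t' ht'S ht'1 y hy hy1
      rw [h1 n hn, mul_inv_cancel_right] at hny
      rw [← hny]
      exact mem_zpowers t'
    have h3 := Subgroup.card_le_of_le h2
    rw [hS8, Nat.card_zpowers, orderOf_eq_prime (p := 2) (by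
      rw [pow_two]; exact C.sq S t' ht'S) ht'1] at h3
    omega
  · apply apart_card hCc
    rw [hcC, hN1]
    exact hCa i1
  · apply apart_card hCc
    rw [hcC, hN2]
    exact hCa i2
  · intro g K h1 h2
    by_contra hK
    have h3 := Subgroup.card_dvd_of_le h1
    have h4 := Subgroup.card_dvd_of_le (map_conj_le h2)
    rw [card_map_conj, hN2] at h4
    rw [hN1] at h3
    have h5 := (H125.ReeFull.cop_factor m).mul_dvd_of_dvd_of_dvd ((Nat.dvd_mul_left _ _).trans h3)
      ((Nat.dvd_mul_left _ _).trans h4)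
    rw [H125.ReeFull.factor] at h5
    have h6 := hZ K hK h5
    have h7 := Nat.le_of_dvd Nat.card_pos h5
    have h8 : 27 * 3 ^ (2 * m + 1) ≤ (3 ^ (2 * m + 1)) ^ 2 := by
      rw [pow_two]; exact Nat.mul_le_mul_right _ q27
    omega

end Cfsg.Agent.H963.ReeSepB
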